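import Cfsg.Agent.Lib.Recog.Phan.Small.Three.Two

/-!
# Elements of order three and coordinate planes in four dimensions, characteristic three
-/

set_option autoImplicit false
set_option linter.unusedSectionVars false

namespace CfsgLib.Recog.Phan.Small.Three

open Matrix CfsgLib.MaxSub CfsgLib.Pres.SUn

variable {F : Type*} [Field F] [Fintype F]

/-- `{i, j}` is exactly the eigenspace of `s` for `e`. -/
def IsPlane (s : Cfsg.SU 4 F 3) (e : F) (i j : Fin 4) : Prop :=
  i ≠ j ∧ ∀ v : Fin 4 → F, act s v = e • v ↔ ∀ k, k ≠ i → k ≠ j → v k = 0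

variable {s : Cfsg.SU 4 F 3} {e : F} {i j : Fin 4} (P : IsPlane s e i j)

include P

theorem IsPlane.single_left : act s (Pi.single i 1) = e • Pi.single i 1 :=
  (P.2 _).2 fun _ hk _ => Pi.single_eq_of_ne hk 1

theorem IsPlane.single_right : act s (Pi.single j 1) = e • Pi.single j 1 :=
  (P.2 _).2 fun _ _ hk => Pi.single_eq_of_ne hk 1

theorem IsPlane.ne_zero {v : Fin 4 → F} (hv : act s v = e • v) (h : v ≠ 0) : v i ≠ 0 ∨ v j ≠ 0 := by
  by_contra hc
  push Not at hc
  refine h (funext fun k => ?_)
  by_cases hi : k = i
  · rw [hi]; exact hc.1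
  · by_cases hj : k = j
    · rw [hj]; exact hc.2
    · exact (P.2 v).1 hv k hi hj

theorem IsPlane.decomp {v : Fin 4 → F} (hv : act s v = e • v) : v = v i • Pi.single i 1 + v j • Pi.single j 1 := by
  funext k
  by_cases hi : k = i
  · subst hi; simp [P.1]
  · by_cases hj : k = j
    · subst hj; simp [P.1.symm]
    · simp [hi, hj, (P.2 v).1 hv k hi hj]

omit P in
theorem inv_eigen {g : Cfsg.SU 4 F 3} (h : Commute g s) {v : Fin 4 → F} (hv : act s v = e • v) :
    act s (act g v) = e • act g v := by
  rw [← act_mul, ← h.eq, act_mul, hv, act_smul]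

variable (hF : Fintype.card F = 3 ^ 2)
include hF

/-- An element of order three fixes a nonzero vector of an invariant plane. -/
theorem IsPlane.exists_fixed {X : Cfsg.SU 4 F 3} (hX : X ^ 3 = 1) (hs : Commute X s) :
    ∃ x, x ≠ 0 ∧ act s x = e • x ∧ act X x = x := by
  have hN : ∀ v, act X (act X (act X v) - act X v - (act X v - v)) = act X (act X v) - act X v - (act X v - v) := by
    intro v
    have h3 : act X (act X (act X v)) = v := by
      rw [← act_mul, ← act_mul, show X * X * X = 1 by rw [← hX, pow_succ, pow_two], act_one]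
    have hsub : ∀ a b : Fin 4 → F, act X (a - b) = act X a - act X b := fun a b => by
      rw [sub_eq_add_neg, act_add, ← neg_one_smul F b, act_smul, neg_one_smul, ← sub_eq_add_neg]
    simp only [hsub, h3]
    funext k
    simp only [Pi.sub_apply]
    linear_combination (act X v k - act X (act X v) k) * three_zero hF
  have hE : ∀ v, act s v = e • v → act s (act X v - v) = e • (act X v - v) := fun v hv => by
    rw [sub_eq_add_neg, act_add, ← neg_one_smul F v, act_smul, hv, inv_eigen hs hv, smul_add, smul_comm]
  set v : Fin 4 → F := Pi.single i 1 with hv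
  have hvn : v ≠ 0 := fun h => by have := congrFun h i; simp [hv] at this
  have hve : act s v = e • v := P.single_left
  by_cases h1 : act X v = v
  · exact ⟨v, hvn, hve, h1⟩
  have hsub : act X (act X v - v) = act X (act X v) - act X v := by
    rw [sub_eq_add_neg, act_add, ← neg_one_smul F v, act_smul, neg_one_smul, ← sub_eq_add_neg]
  by_cases h2 : act X (act X v - v) = act X v - v
  · exact ⟨_, sub_ne_zero.2 h1, hE v hve, h2⟩
  rw [hsub] at h2
  refine ⟨_, sub_ne_zero.2 h2, ?_, hN v⟩
  rw [← hsub]
  exact hE _ (hE v hve)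

omit hF in
theorem IsPlane.all_fixed {X : Cfsg.SU 4 F 3} {x y : Fin 4 → F} (hx : act s x = e • x) (hy : act s y = e • y)
    (hXx : act X x = x) (hXy : act X y = y) (hx0 : x ≠ 0) :
    (∀ v, act s v = e • v → act X v = v) ∨ ∃ a : F, y = a • x := by
  by_cases hd : x i * y j - x j * y i = 0
  · right
    rcases P.ne_zero hx hx0 with h | h
    · refine ⟨y i / x i, funext fun k => ?_⟩
      rw [Pi.smul_apply, smul_eq_mul]
      by_cases hi : k = i
      · subst hi; rw [div_mul_cancel₀ _ h]
      · by_cases hj : k = j
        · subst hj; field_simp; linear_combination hd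
        · rw [(P.2 x).1 hx k hi hj, (P.2 y).1 hy k hi hj, mul_zero]
    · refine ⟨y j / x j, funext fun k => ?_⟩
      rw [Pi.smul_apply, smul_eq_mul]
      by_cases hi : k = i
      · subst hi; field_simp; linear_combination -hd
      · by_cases hj : k = j
        · subst hj; rw [div_mul_cancel₀ _ h]
        · rw [(P.2 x).1 hx k hi hj, (P.2 y).1 hy k hi hj, mul_zero]
  · left
    intro v hv
    have e1 : (x i * y j - x j * y i) • v = (v i * y j - v j * y i) • x + (x i * v j - x j * v i) • y := by
      funext k
      simp only [Pi.add_apply, Pi.smul_apply, smul_eq_mul]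
      by_cases hi : k = i
      · subst hi; ring
      · by_cases hj : k = j
        · subst hj; ring
        · rw [(P.2 v).1 hv k hi hj, (P.2 x).1 hx k hi hj, (P.2 y).1 hy k hi hj]; ring
    have h := congrArg (act X) e1
    simp only [act_add, act_smul, hXx, hXy] at h
    rw [← e1] at h
    exact smul_right_injective _ hd h

/-- An element commuting with two anticommuting transformations of a plane is trivial there. -/
theorem IsPlane.trivial {X D R t : Cfsg.SU 4 F 3} (hX : X ^ 3 = 1) (hXs : Commute X s) (hDs : Commute D s)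
    (hRs : Commute R s) (hXD : Commute X D) (hXR : Commute X R) (hdr : D * R = t * (R * D))
    (ht : ∀ v, act s v = e • v → act t v = -v) : ∀ v, act s v = e • v → act X v = v := by
  obtain ⟨x, hx0, hx, hXx⟩ := P.exists_fixed hF hX hXs
  have hDx : act X (act D x) = act D x := by rw [← act_mul, hXD.eq, act_mul, hXx]
  have hRx : act X (act R x) = act R x := by rw [← act_mul, hXR.eq, act_mul, hXx]
  rcases P.all_fixed hx (inv_eigen hDs hx) hXx hDx hx0 with h | ⟨a, ha⟩
  · exact h
  rcases P.all_fixed hx (inv_eigen hRs hx) hXx hRx hx0 with h | ⟨b, hb⟩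
  · exact h
  exfalso
  have h1 : act (D * R) x = (a * b) • x := by rw [act_mul, hb, act_smul, ha, smul_smul, mul_comm]
  have h2 : act (R * D) x = (a * b) • x := by rw [act_mul, ha, act_smul, hb, smul_smul]
  rw [hdr, act_mul, h2, act_smul, ht x hx, smul_neg] at h1
  have h3 : (2 * (a * b)) • x = 0 := by rw [two_mul, add_smul]; nth_rewrite 1 [← h1]; exact neg_add_cancel _
  have h4 : a * b = 0 :=
    (mul_eq_zero.1 ((smul_eq_zero.1 h3).resolve_right hx0)).resolve_left (two_ne hF)
  rcases mul_eq_zero.1 h4 with h | h
  · exact hx0 (act_inj D (by rw [ha, h, zero_smul]; exact (Matrix.mulVec_zero _).symm))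
  · exact hx0 (act_inj R (by rw [hb, h, zero_smul]; exact (Matrix.mulVec_zero _).symm))

omit hF P in
/-- An element fixing all but two coordinate vectors and a vector in their plane has rank one difference from one. -/
theorem rank_one {X : Cfsg.SU 4 F 3} {i j : Fin 4} (hij : i ≠ j)
    (hX : X ∈ (SOn {i, j} : Subgroup (Cfsg.SU 4 F 3))) {x : Fin 4 → F}
    (hx : ∀ k, k ≠ i → k ≠ j → x k = 0) (hx0 : x i ≠ 0 ∨ x j ≠ 0) (hXx : act X x = x) :
    ∃ (c : Fin 4 → F) (φ : (Fin 4 → F) → F), ∀ v, act X v - v = φ v • c := by
  have hL : ∀ v, act X v - v = v i • (act X (Pi.single i 1) - Pi.single i 1) +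
      v j • (act X (Pi.single j 1) - Pi.single j 1) := fun v => by
    have h := act_eq_self (q := 3) (by norm_num) hX (v := v - v i • Pi.single i 1 - v j • Pi.single j 1) fun k hk => by
      simp only [Finset.mem_insert, Finset.mem_singleton] at hk
      rcases hk with rfl | rfl
      · simp [hij]
      · simp [hij.symm]
    have e1 : act X v = act X (v - v i • Pi.single i 1 - v j • Pi.single j 1) +
        (v i • act X (Pi.single i 1) + v j • act X (Pi.single j 1)) := by
      rw [← act_smul, ← act_smul, ← act_add, ← act_add]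
      congr 1; abel
    rw [e1, h, smul_sub, smul_sub]
    abel
  have hx' := hL x
  rw [hXx, sub_self] at hx'
  rcases eq_or_ne (x j) 0 with h | h
  · rw [h, zero_smul, add_zero] at hx'
    have hi := (smul_eq_zero.1 hx'.symm).resolve_left (hx0.resolve_right (fun h' => h' h))
    exact ⟨_, fun v => v j, fun v => by rw [hL v, hi, smul_zero, zero_add]⟩
  · refine ⟨act X (Pi.single i 1) - Pi.single i 1, fun v => v i - v j * (x i / x j), fun v => ?_⟩
    rw [hL v]
    funext k
    have := congrFun hx' k
    simp only [Pi.zero_apply, Pi.add_apply, Pi.smul_apply, smul_eq_mul] at this ⊢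
    field_simp
    linear_combination -(v j) * this

end CfsgLib.Recog.Phan.Small.Three
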