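import Cfsg.Agent.Lib.Recog.Phan.Small.Three.Two
import Cfsg.Agent.Lib.Classical.UnitaryGen
import Cfsg.Agent.Lib.KnownC.UnitarySpectrum

/-!
# Lifts of elements of order three to the special unitary group of degree four over nine elements
-/

set_option autoImplicit false
set_option linter.unusedSectionVars false

namespace CfsgLib.Recog.Phan.Small.Three

open Matrix CfsgLib.MaxSub CfsgLib.Pres.SUn
open CfsgLib.Recog.Phan.Norm (mat mat_ext mat_mul)

variable {F : Type*} [Field F] [Fintype F] {G : Type*} [Group G]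

/-- The kernel is small. -/
structure Cov (g : Cfsg.SU 4 F 3 →* G) : Prop where
  central : ∀ z, g z = 1 → ∀ x, Commute z x
  four : ∀ z, g z = 1 → z ^ 4 = 1

variable {g : Cfsg.SU 4 F 3 →* G} (H : Cov g)

include H in
theorem Cov.unique {a b : Cfsg.SU 4 F 3} (h : g a = g b) (ha : a ^ 3 = 1) (hb : b ^ 3 = 1) : a = b := by
  have hz : g (a⁻¹ * b) = 1 := by rw [map_mul, map_inv, h, inv_mul_cancel]
  have hc := H.central _ hz a
  have h3 : (a⁻¹ * b) ^ 3 = 1 := by
    have : Commute a⁻¹ b := by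
      have := ((Commute.refl a⁻¹).mul_right (hc.symm.inv_left))
      have e : b = a * (a⁻¹ * b) := by rw [mul_inv_cancel_left]
      rw [e]
      exact (Commute.refl a).inv_left.mul_right (hc.symm.inv_left)
    rw [this.mul_pow, inv_pow, ha, hb, inv_one, one_mul]
  have h1 : a⁻¹ * b = 1 := by
    have h4 := H.four _ hz
    rwa [pow_succ, h3, one_mul] at h4
  exact inv_mul_eq_one.1 h1

include H in
theorem Cov.exists_lift {x : Cfsg.SU 4 F 3} {y : G} (hx : g x = y) (hy : y ^ 3 = 1) :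
    ∃ a, g a = y ∧ a ^ 3 = 1 := by
  have hz : g (x ^ 3) = 1 := by rw [map_pow, hx, hy]
  refine ⟨x ^ 4, ?_, ?_⟩
  · rw [map_pow, hx, pow_succ, hy, one_mul]
  · rw [← pow_mul, mul_comm, pow_mul, H.four _ hz]

include H in
theorem Cov.comm_lift {a b : Cfsg.SU 4 F 3} (h : Commute (g a) (g b)) (hb : b ^ 3 = 1) : Commute a b := by
  have e : a * b * a⁻¹ = b := H.unique
    (by rw [map_mul, map_mul, map_inv, h.eq, mul_inv_cancel_right])
    (by rw [conj_pow, hb, mul_one, mul_inv_cancel]) hb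
  exact mul_inv_eq_iff_eq_mul.1 e

variable (hF : Fintype.card F = 3 ^ 2)

/-- Lifts of the three generators of a copy of the special unitary group of degree two. -/
structure Tri (g : Cfsg.SU 4 F 3 →* G) (ε : Cfsg.SU 2 F 3 →* G) where
  U : Cfsg.SU 4 F 3
  V : Cfsg.SU 4 F 3
  W : Cfsg.SU 4 F 3
  gU : g U = ε (uE hF)
  gV : g V = ε (vE hF)
  gW : g W = ε (wE hF)
  cU : U ^ 3 = 1
  cV : V ^ 3 = 1
  cW : W ^ 3 = 1

namespace Tri

variable {hF} {ε : Cfsg.SU 2 F 3 →* G} (T : Tri hF g ε)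

/-- lift of the diagonal generator -/
def D : Cfsg.SU 4 F 3 := T.U * T.V

/-- lift of the antidiagonal generator -/
def R : Cfsg.SU 4 F 3 := T.W * T.V

/-- the involution -/
def s : Cfsg.SU 4 F 3 := T.D * T.R * T.D⁻¹ * T.R⁻¹

theorem gD : g T.D = ε (dE hF) := by rw [D, map_mul, T.gU, T.gV, ← map_mul, ← d_eq]

theorem gR : g T.R = ε (rE hF) := by rw [R, map_mul, T.gW, T.gV, ← map_mul, ← r_eq]

theorem gs : g T.s = ε (dE hF * dE hF) := by
  rw [← d_comm_r hF]
  simp only [s, map_mul, map_inv, gD, gR]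

include H

theorem s_comm_gen {b : Cfsg.SU 4 F 3} {x : Cfsg.SU 2 F 3} (hg : g b = ε x) (hb : b ^ 3 = 1) : Commute T.s b :=
  H.comm_lift (by rw [gs, hg]; exact (m_comm hF x).map ε) hb

theorem sU : Commute T.s T.U := T.s_comm_gen H T.gU T.cU
theorem sV : Commute T.s T.V := T.s_comm_gen H T.gV T.cV
theorem sW : Commute T.s T.W := T.s_comm_gen H T.gW T.cW
theorem sD : Commute T.s T.D := (T.sU H).mul_right (T.sV H)
theorem sR : Commute T.s T.R := (T.sW H).mul_right (T.sV H)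

theorem s_sq : T.s * T.s = 1 := by
  have hz : g ((T.D * T.D) * T.s⁻¹) = 1 := by
    rw [map_mul, map_inv, gs, map_mul, gD, ← map_mul, mul_inv_cancel]
  have hc : Commute (T.D * T.D) T.R := by
    have := (H.central _ hz T.R).mul_left (T.sR H)
    rwa [inv_mul_cancel_right] at this
  have h1 : T.D * T.R = T.s * T.R * T.D := by simp [s, mul_assoc]
  have h2 : T.D * T.D * T.R = T.s * T.s * T.R * (T.D * T.D) := by
    calc T.D * T.D * T.R = T.D * (T.D * T.R) := mul_assoc _ _ _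
      _ = T.D * T.s * (T.R * T.D) := by rw [h1]; simp [mul_assoc]
      _ = T.s * (T.D * T.R) * T.D := by rw [(T.sD H).symm.eq]; simp [mul_assoc]
      _ = T.s * T.s * T.R * (T.D * T.D) := by rw [h1]; simp [mul_assoc]
  rw [hc.eq] at h2
  have h3 : T.R * (T.D * T.D) = (T.s * T.s) * (T.R * (T.D * T.D)) := by rw [← mul_assoc (T.s * T.s)]; exact h2
  exact mul_eq_right.1 h3.symm

theorem dr : T.D * T.R = T.s * (T.R * T.D) := by simp [s, mul_assoc]

theorem W_eq : T.W = T.D * T.U * T.D⁻¹ :=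
  H.unique (by rw [map_mul, map_mul, map_inv, gD, T.gU, T.gW, ← map_inv, ← map_mul, ← map_mul, w_conj]) T.cW
    (by rw [conj_pow, T.cU, mul_one, mul_inv_cancel])

theorem central_udu : ∀ x, Commute (T.R * T.U * T.D * T.U⁻¹) x := by
  refine H.central _ ?_
  rw [map_mul, map_mul, map_mul, map_inv, gD, gR, T.gU, ← map_inv, ← map_mul, ← map_mul, ← map_mul,
    mul_assoc (rE hF), u_conj_d, mul_inv_cancel_left, mul_inv_cancel, map_one]

end Tri

include H in
theorem Cov.exists_tri {hF : Fintype.card F = 3 ^ 2} {ε : Cfsg.SU 2 F 3 →* G} (h : ε.range ≤ g.range) :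
    Nonempty (Tri hF g ε) := by
  have key : ∀ x : Cfsg.SU 2 F 3, x ^ 3 = 1 → ∃ a, g a = ε x ∧ a ^ 3 = 1 := fun x hx => by
    obtain ⟨y, hy⟩ := h ⟨x, rfl⟩
    exact H.exists_lift hy (by rw [← map_pow, hx, map_one])
  obtain ⟨U, hU, cU⟩ := key (uE hF) (cube_of hF _ _)
  obtain ⟨V, hV, cV⟩ := key (vE hF) (cube_of hF _ _)
  obtain ⟨W, hW, cW⟩ := key (wE hF) (cube_of hF _ _)
  exact ⟨⟨U, V, W, hU, hV, hW, cU, cV, cW⟩⟩

theorem range_le {ε : Cfsg.SU 2 F 3 →* G} (T : Tri hF g ε) {S : Subgroup (Cfsg.SU 4 F 3)}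
    (hU : T.U ∈ S) (hV : T.V ∈ S) (hW : T.W ∈ S) : ε.range ≤ S.map g := by
  have htop := closure_uvw hF ((S.map g).comap ε) ⟨_, hU, T.gU⟩ ⟨_, hV, T.gV⟩ ⟨_, hW, T.gW⟩
  rintro _ ⟨x, rfl⟩
  exact (htop ▸ Subgroup.mem_top x : x ∈ (S.map g).comap ε)

include hF

/-- A normal subgroup is central or covers the group modulo the centre. -/
theorem normal_cases {n : ℕ} (hn : 3 ≤ n) (N : Subgroup (Cfsg.SU n F 3)) [N.Normal] :
    N ≤ Subgroup.center (Cfsg.SU n F 3) ∨ ∀ x : Cfsg.SU n F 3, ∃ a ∈ N, ∃ z ∈ Subgroup.center (Cfsg.SU n F 3), x = a * z := by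
  have := CfsgLib.Classical.isSimpleGroup_psu hF hn (by omega)
  let p : Cfsg.SU n F 3 →* Cfsg.PSU n F 3 := QuotientGroup.mk' _
  have hp : Function.Surjective p := QuotientGroup.mk'_surjective _
  have hNn : (N.map p).Normal := Subgroup.Normal.map inferInstance p hp
  rcases hNn.eq_bot_or_eq_top with h | h
  · left
    intro x hx
    have : p x ∈ N.map p := ⟨x, hx, rfl⟩
    rw [h, Subgroup.mem_bot] at this
    exact (QuotientGroup.eq_one_iff x).1 this
  · right
    intro x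
    obtain ⟨a, ha, hax⟩ : p x ∈ N.map p := h ▸ Subgroup.mem_top _
    exact ⟨a, ha, a⁻¹ * x, QuotientGroup.eq.1 hax, by rw [mul_inv_cancel_left]⟩

theorem center_three {x : Cfsg.SU 3 F 3} (h : x ∈ Subgroup.center (Cfsg.SU 3 F 3)) : x = 1 := by
  obtain ⟨c, -, hc⟩ := CfsgLib.KnownC.UnitarySpectrum.scalar_of_mk_eq_one hF (by omega) x
    ((QuotientGroup.eq_one_iff x).2 h)
  have hd : (CfsgLib.KnownC.UnitarySpectrum.mat x).det = 1 := (x : SpecialLinearGroup (Fin 3) F).2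
  rw [hc, det_smul, det_one, mul_one, Fintype.card_fin] at hd
  have h0 : (c - 1) ^ 3 = 0 := by linear_combination hd + (c - c ^ 2) * three_zero hF
  have h1 : c = 1 := sub_eq_zero.1 (pow_eq_zero_iff (by norm_num) |>.1 h0)
  refine CfsgLib.KnownC.UnitarySpectrum.mat_inj ?_
  rw [hc, h1, one_smul]
  rfl

theorem left2_m_ne : left2 (dE hF * dE hF) ≠ 1 ∧ right2 (dE hF * dE hF) ≠ 1 :=
  ⟨fun h => m_ne hF (blk_injective _ (h.trans (map_one _).symm)),
    fun h => m_ne hF (blk_injective _ (h.trans (map_one _).symm))⟩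

theorem dr_ne : dE hF * rE hF ≠ rE hF * dE hF := fun h => by
  have e := r_flip hF
  rw [h, mul_assoc] at e
  exact m_ne hF (mul_eq_left.1 e)

theorem good_injective {V A B : Subgroup G} {f : Cfsg.SU 3 F 3 →* G} (hf : Norm.Good V A B f) :
    Function.Injective f := by
  rw [← f.ker_eq_bot_iff, Subgroup.eq_bot_iff_forall]
  rcases normal_cases hF (le_refl 3) f.ker with h | h
  · exact fun x hx => center_three hF (h hx)
  · exfalso
    refine left2_m_ne hF |>.1 ?_
    obtain ⟨a, ha, z, hz, e⟩ := h (left2 (dE hF * dE hF))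
    have hz1 := center_three hF hz
    rw [hz1, mul_one] at e
    have h1 : f (left2 (dE hF * dE hF)) = 1 := e ▸ ha
    exact absurd (hf.left_inj (a₂ := 1) (by simpa using h1)) (m_ne hF)

theorem cov_of (g : Cfsg.SU 4 F 3 →* G) {ε : Cfsg.SU 2 F 3 →* G} (hε : Function.Injective ε)
    (h : ε.range ≤ g.range) : Cov g := by
  have hc : g.ker ≤ Subgroup.center (Cfsg.SU 4 F 3) := by
    rcases normal_cases hF (show 3 ≤ 4 by norm_num) g.ker with h' | h'
    · exact h'
    · exfalso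
      obtain ⟨x, hx⟩ := h ⟨dE hF, rfl⟩
      obtain ⟨y, hy⟩ := h ⟨rE hF, rfl⟩
      obtain ⟨a, ha, z, hz, rfl⟩ := h' x
      rw [map_mul, MonoidHom.mem_ker.1 ha, one_mul] at hx
      refine dr_ne hF (hε ?_)
      rw [map_mul, map_mul, ← hx, ← hy, ← map_mul, ← map_mul, (Subgroup.mem_center_iff.1 hz y).symm]
  refine ⟨fun z hz x => (Subgroup.mem_center_iff.1 (hc hz) x).symm, fun z hz => ?_⟩
  obtain ⟨c, hc1, hcz⟩ := CfsgLib.KnownC.UnitarySpectrum.scalar_of_mk_eq_one hF (by omega) z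
    ((QuotientGroup.eq_one_iff z).2 (hc hz))
  refine CfsgLib.KnownC.UnitarySpectrum.mat_inj ?_
  rw [CfsgLib.KnownC.UnitarySpectrum.mat_pow, hcz, smul_pow, one_pow, CfsgLib.Classical.qFrob_apply] at *
  rw [← pow_succ'] at hc1
  rw [hc1, one_smul]
  rfl

end CfsgLib.Recog.Phan.Small.Three
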