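import Cfsg.Agent.Lib.Recog.Phan.Small.Three.Frame
import Cfsg.Agent.Lib.Recog.Phan.Small.Three.Plane
import Cfsg.Agent.Lib.Recog.Phan.Small.Three.Tri
import Cfsg.Agent.Lib.Recog.Phan.Gen

/-!
# Two standard pairs inside an image of the special unitary group of degree four over nine elements

The image is then the image under a homomorphism which carries the coordinate blocks onto the given subgroups.
-/

set_option autoImplicit false
set_option linter.unusedSectionVars false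

namespace CfsgLib.Recog.Phan.Small.Three

open Matrix CfsgLib.MaxSub CfsgLib.Pres.SUn
open CfsgLib.Recog.Phan.Norm (mat mat_ext mat_mul Good exists_good)

variable {F : Type*} [Field F] [Fintype F] (hF : Fintype.card F = 3 ^ 2) {G : Type*} [Group G]

theorem isPlane_diag {s : Cfsg.SU 4 F 3} {d : Fin 4 → F} (hs : mat s = diagonal d) {e : F} {i j : Fin 4}
    (hij : i ≠ j) (hi : d i = e) (hj : d j = e) (ho : ∀ k, k ≠ i → k ≠ j → d k ≠ e) : IsPlane s e i j := by
  have h : ∀ v k, act s v k = d k * v k := fun v k => by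
    show (mat s *ᵥ v) k = _
    rw [hs, mulVec_diagonal]
  refine ⟨hij, fun v => ⟨fun hv k h1 h2 => ?_, fun hv => funext fun k => ?_⟩⟩
  · have := congrFun hv k
    rw [h, Pi.smul_apply, smul_eq_mul] at this
    by_contra h0
    exact ho k h1 h2 (mul_right_cancel₀ h0 this)
  · rw [h, Pi.smul_apply, smul_eq_mul]
    by_cases h1 : k = i
    · rw [h1, hi]
    by_cases h2 : k = j
    · rw [h2, hj]
    rw [hv k h1 h2, mul_zero, mul_zero]

theorem IsPlane.fixed_mem {s : Cfsg.SU 4 F 3} {e : F} {i j : Fin 4} (P : IsPlane s e i j) {X : Cfsg.SU 4 F 3}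
    (h : ∀ v, act s v = e • v → act X v = v) {T : Finset (Fin 4)} (hT : ∀ k, k ∉ T → k = i ∨ k = j) :
    X ∈ (SOn T : Subgroup (Cfsg.SU 4 F 3)) := fun k hk => by
  rcases hT k hk with rfl | rfl
  · exact h _ P.single_left
  · exact h _ P.single_right

include hF

/-- A rank-one element commuting with an involution is trivial on one of its eigenspaces. -/
theorem rank_one_cases {X s : Cfsg.SU 4 F 3} (hXs : Commute X s) {c : Fin 4 → F} {φ : (Fin 4 → F) → F}
    (hX : ∀ v, act X v - v = φ v • c) :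
    (∀ v, act s v = (-1 : F) • v → act X v = v) ∨ ∀ v, act s v = (1 : F) • v → act X v = v := by
  by_contra hc
  push Not at hc
  obtain ⟨⟨v, hv, hv'⟩, ⟨w, hw, hw'⟩⟩ := hc
  have key : ∀ (e : F) u, act s u = e • u → act X u ≠ u → act s c = e • c := fun e u hu hu' => by
    have h1 : act s (φ u • c) = e • (φ u • c) := by
      rw [← hX, sub_eq_add_neg, act_add, ← neg_one_smul F u, act_smul, hu, inv_eigen hXs hu, smul_add, smul_comm]
    rw [act_smul, smul_comm e] at h1
    refine smul_right_injective _ (fun h0 => hu' ?_) h1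
    rw [← sub_eq_zero, hX, h0, zero_smul]
  have e1 := key _ v hv hv'
  rw [key _ w hw hw', one_smul, neg_one_smul] at e1
  have h2 : (2 : F) • c = 0 := by rw [two_smul]; nth_rewrite 1 [e1]; exact neg_add_cancel _
  rw [smul_eq_zero] at h2
  exact hv' (sub_eq_zero.1 (by rw [hX, h2.resolve_left (two_ne hF), smul_zero]))

/-- The involution on the last two coordinates. -/
theorem neg_on_last {x : Cfsg.SU 4 F 3} (hx : x ∈ (SOn {2, 3} : Subgroup (Cfsg.SU 4 F 3))) (h2 : x * x = 1)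
    (h1 : x ≠ 1) {v : Fin 4 → F} (h0 : v 0 = 0) (h0' : v 1 = 0) : act x v = -v := by
  rw [← range_emb (F := F) (q := 3) (k := 2) (m := 4) (by norm_num) 2 (by omega) (T := {2, 3})
    (by decide)] at hx
  obtain ⟨y, rfl⟩ := hx
  have hy : y = dE hF * dE hF := by
    refine involution_eq hF (blk_injective (F := F) (q := 3) (iv 2 (by omega : 2 + 2 ≤ 4)) ?_)
      (fun h => h1 (by rw [h, map_one]))
    rw [map_mul, map_one]
    exact h2
  funext k
  by_cases hk : ∃ b, iv 2 (by omega : 2 + 2 ≤ 4) b = k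
  · obtain ⟨b, rfl⟩ := hk
    rw [emb, act_blk_in, hy]
    show (mat (dE hF * dE hF) *ᵥ _) b = _
    rw [mat_m, neg_mulVec, one_mulVec]
    rfl
  · rw [emb, act_blk_out _ _ _ hk, Pi.neg_apply]
    have : v k = 0 := by
      fin_cases k
      · exact h0
      · exact h0'
      · exact absurd ⟨0, rfl⟩ hk
      · exact absurd ⟨1, rfl⟩ hk
    rw [this, neg_zero]

variable {V V' A B C : Subgroup G} {f f' : Cfsg.SU 3 F 3 →* G}

/-- In a good frame the lifts lie in the coordinate blocks. -/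
theorem lifts_mem {θ : Cfsg.SU 4 F 3 →* G} (H : Cov θ) (hf : Good V A B f) (hf' : Good V' B C f')
    (hcomm : ∀ x ∈ A, ∀ y ∈ C, x * y = y * x) (hV : V ≤ θ.range)
    (TA : Tri hF θ (f.comp left2)) (TB : Tri hF θ (f.comp right2)) (TC : Tri hF θ (f'.comp right2))
    (h0 : mat TA.s = diagonal ![-1, -1, 1, 1]) (h1 : mat TB.s = diagonal ![1, -1, -1, 1]) :
    (TA.U ∈ SOn {0, 1} ∧ TA.V ∈ SOn {0, 1} ∧ TA.W ∈ SOn {0, 1}) ∧
    (TB.U ∈ SOn {1, 2} ∧ TB.V ∈ SOn {1, 2} ∧ TB.W ∈ SOn {1, 2}) ∧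
    (TC.U ∈ SOn {2, 3} ∧ TC.V ∈ SOn {2, 3} ∧ TC.W ∈ SOn {2, 3}) := by
  have hne : (1 : F) ≠ -1 := fun h => two_ne hF (by linear_combination h)
  have P0 : IsPlane TA.s (-1) 0 1 := isPlane_diag h0 (by decide) rfl rfl fun k h h' => by
    fin_cases k <;> first | exact absurd rfl h | exact absurd rfl h' | exact hne
  have Q0 : IsPlane TA.s 1 2 3 := isPlane_diag h0 (by decide) rfl rfl fun k h h' => by
    fin_cases k <;> first | exact absurd rfl h | exact absurd rfl h' | exact hne.symm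
  have P1 : IsPlane TB.s (-1) 1 2 := isPlane_diag h1 (by decide) rfl rfl fun k h h' => by
    fin_cases k <;> first | exact absurd rfl h | exact absurd rfl h' | exact hne
  have Q1 : IsPlane TB.s 1 0 3 := isPlane_diag h1 (by decide) rfl rfl fun k h h' => by
    fin_cases k <;> first | exact absurd rfl h | exact absurd rfl h' | exact hne.symm
  -- the outer pairs commute
  have hAC : ∀ a c (x y : Cfsg.SU 2 F 3), θ a = f (left2 x) → θ c = f' (right2 y) → c ^ 3 = 1 → Commute a c :=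
    fun a c x y ha hc hc3 => H.comm_lift
      (by rw [ha, hc]; exact hcomm _ (hf.left ▸ ⟨x, rfl⟩) _ (hf'.right ▸ ⟨y, rfl⟩)) hc3
  have hC : ∀ c y, θ c = f' (right2 y) → c ^ 3 = 1 → c ∈ (SOn {2, 3} : Subgroup (Cfsg.SU 4 F 3)) := by
    intro c y hc hc3
    refine P0.fixed_mem (P0.trivial hF hc3 (hAC _ _ _ _ TA.gs hc hc3).symm (TA.sD H).symm (TA.sR H).symm
      (hAC _ _ _ _ TA.gD hc hc3).symm (hAC _ _ _ _ TA.gR hc hc3).symm (TA.dr H) fun v hv => ?_) (by decide)
    rw [hv, neg_one_smul]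
  have hCU := hC _ _ TC.gU TC.cU
  have hCV := hC _ _ TC.gV TC.cV
  have hCW := hC _ _ TC.gW TC.cW
  have hs2 : TC.s ∈ (SOn {2, 3} : Subgroup (Cfsg.SU 4 F 3)) :=
    mul_mem (mul_mem (mul_mem (mul_mem hCU hCV) (mul_mem hCW hCV)) (inv_mem (mul_mem hCU hCV)))
      (inv_mem (mul_mem hCW hCV))
  have hs2ne : TC.s ≠ 1 := fun h => m_ne hF (hf'.right_inj (by
    show f'.comp right2 _ = f'.comp right2 _
    rw [← TC.gs, h, map_one, map_one]))
  have hA : ∀ a x, θ a = f (left2 x) → a ^ 3 = 1 → a ∈ (SOn {0, 1} : Subgroup (Cfsg.SU 4 F 3)) := by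
    intro a x ha ha3
    have hU := hAC _ _ _ _ ha TC.gU TC.cU
    have hV := hAC _ _ _ _ ha TC.gV TC.cV
    have hW := hAC _ _ _ _ ha TC.gW TC.cW
    have sU := hAC _ _ _ _ TA.gs TC.gU TC.cU
    have sV := hAC _ _ _ _ TA.gs TC.gV TC.cV
    have sW := hAC _ _ _ _ TA.gs TC.gW TC.cW
    refine Q0.fixed_mem (Q0.trivial hF ha3 (TA.s_comm_gen H ha ha3).symm (sU.mul_right sV).symm
      (sW.mul_right sV).symm (hU.mul_right hV) (hW.mul_right hV) (TC.dr H) fun v hv => ?_) (by decide)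
    exact neg_on_last hF hs2 (TC.s_sq H) hs2ne ((Q0.2 v).1 hv 0 (by decide) (by decide))
      ((Q0.2 v).1 hv 1 (by decide) (by decide))
  refine ⟨⟨hA _ _ TA.gU TA.cU, hA _ _ TA.gV TA.cV, hA _ _ TA.gW TA.cW⟩, ?_, ⟨hCU, hCV, hCW⟩⟩
  -- the middle pair is conjugate to the first one
  have hB : ∀ b x, θ b = f (right2 x) → b ^ 3 = 1 →
      (∀ v, act TB.s v = (-1 : F) • v → act b v = v) ∨ ∀ v, act TB.s v = (1 : F) • v → act b v = v := by
    intro b x hb hb3
    let σ : alternatingGroup (Fin 3) :=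
      ⟨finRotate 3, Equiv.Perm.mem_alternatingGroup.2 (by decide)⟩
    have hw : (permSU σ : Cfsg.SU 3 F 3) * left2 x * (permSU σ)⁻¹ = right2 x := by
      rw [left2, emb, permSU_blk]
      have e : (iv 0 (by omega : 0 + 2 ≤ 3)).trans (σ : Equiv.Perm (Fin 3)).toEmbedding =
          iv 1 (by omega : 1 + 2 ≤ 3) := DFunLike.ext _ _ fun a => by fin_cases a <;> rfl
      rw [e]
    obtain ⟨w, hw'⟩ := hV (hf.range ▸ ⟨permSU σ, rfl⟩ : f (permSU σ) ∈ V)
    have hinv : θ (w⁻¹ * b * w) = f (left2 x) := by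
      rw [map_mul, map_mul, map_inv, hb, hw', ← hw, map_mul, map_mul, map_inv]
      group
    have hb0 : (w⁻¹ * b * w) ^ 3 = 1 := by
      rw [show w⁻¹ * b * w = w⁻¹ * b * (w⁻¹)⁻¹ by rw [inv_inv], conj_pow, hb3, mul_one, mul_inv_cancel]
    set a := w⁻¹ * b * w with ha
    have haA := hA a x hinv hb0
    obtain ⟨u, hu0, hu, hau⟩ := P0.exists_fixed hF hb0 (TA.s_comm_gen H hinv hb0).symm
    obtain ⟨c, φ, hφ⟩ := rank_one (i := (0 : Fin 4)) (j := 1) (by decide) haA ((P0.2 u).1 hu) (P0.ne_zero hu hu0) hau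
    refine rank_one_cases hF (TB.s_comm_gen H hb hb3).symm (c := act w c) (φ := fun v => φ (act w⁻¹ v)) fun v => ?_
    have e : act b v = act w (act a (act w⁻¹ v)) := by
      rw [← act_mul, ← act_mul, ha]
      congr 1
      group
    rw [e, ← act_smul, ← hφ, sub_eq_add_neg (act a _), act_add, ← neg_one_smul F (act w⁻¹ v), act_smul,
      act_act_inv, neg_one_smul, ← sub_eq_add_neg]
  have sd := TB.sD H
  have sr := TB.sR H
  have hPv : ∀ v, act TB.s v = (-1 : F) • v → act (TB.D * TB.R) v = act (TB.R * TB.D) v → v = 0 := fun v hv h => by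
    have hm : act TB.s (act (TB.R * TB.D) v) = (-1 : F) • act (TB.R * TB.D) v :=
      inv_eigen (sr.symm.mul_left sd.symm) hv
    rw [TB.dr H, act_mul TB.s, hm, neg_one_smul] at h
    have h2 : (2 : F) • act (TB.R * TB.D) v = 0 := by
      rw [two_smul]; nth_rewrite 1 [← h]; exact neg_add_cancel _
    have := (smul_eq_zero.1 h2).resolve_left (two_ne hF)
    exact act_inj _ (this.trans (Matrix.mulVec_zero _).symm)
  have hex : act TB.s (Pi.single 1 1) = (-1 : F) • (Pi.single 1 1 : Fin 4 → F) := P1.single_left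
  have hex0 : (Pi.single 1 1 : Fin 4 → F) ≠ 0 := fun h => by simpa using congrFun h 1
  have hUQ : ∀ v, act TB.s v = (1 : F) • v → act TB.U v = v := by
    refine (hB _ _ TB.gU TB.cU).resolve_left fun hP => ?_
    -- trivial on the moved plane: impossible
    set z := TB.R * TB.U * TB.D * TB.U⁻¹ with hz
    have hzc : Commute z TB.D := TB.central_udu H TB.D
    have hUi : ∀ v, act TB.s v = (-1 : F) • v → act TB.U⁻¹ v = v := fun v hv => by
      conv_lhs => rw [← hP v hv]
      exact act_inv_act _ _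
    have hRD : ∀ v, act TB.s v = (-1 : F) • v → act (TB.R * TB.D) v = act z v := fun v hv => by
      rw [hz, act_mul, act_mul, act_mul, act_mul, hUi v hv, hP _ (inv_eigen sd.symm hv)]
    set y := act TB.D (Pi.single 1 1 : Fin 4 → F) with hy
    have hys : act TB.s y = (-1 : F) • y := inv_eigen sd.symm hex
    refine hex0 (act_inj TB.D ((hPv y hys ?_).trans (Matrix.mulVec_zero _).symm))
    rw [hRD y hys, hy, ← act_mul, mul_assoc TB.D, act_mul, hRD _ hex, ← act_mul, ← act_mul, hzc.eq]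
  have hVQ : ∀ v, act TB.s v = (1 : F) • v → act TB.V v = v := by
    refine (hB _ _ TB.gV TB.cV).resolve_left fun hP => ?_
    have hDU : ∀ v, act TB.s v = (-1 : F) • v → act TB.D v = act TB.U v := fun v hv => by
      rw [Tri.D, act_mul, hP v hv]
    have hRD : ∀ v, act TB.s v = (-1 : F) • v → act TB.R v = act TB.D v := fun v hv => by
      have hu : act TB.s (act TB.D⁻¹ v) = (-1 : F) • act TB.D⁻¹ v := inv_eigen sd.symm.inv_left hv
      rw [Tri.R, act_mul, hP v hv, TB.W_eq H, act_mul, act_mul, ← hDU _ hu, act_act_inv]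
    refine hex0 (hPv _ hex ?_)
    rw [act_mul, act_mul, hRD _ hex, hRD _ (inv_eigen sd.symm hex)]
  have hQi : ∀ g' : Cfsg.SU 4 F 3, (∀ v, act TB.s v = (1 : F) • v → act g' v = v) →
      ∀ v, act TB.s v = (1 : F) • v → act g'⁻¹ v = v := fun g' hg' v hv => by
    conv_lhs => rw [← hg' v hv]
    exact act_inv_act _ _
  have hDQ : ∀ v, act TB.s v = (1 : F) • v → act TB.D v = v := fun v hv => by
    rw [Tri.D, act_mul, hVQ v hv, hUQ v hv]
  refine ⟨Q1.fixed_mem hUQ (by decide), Q1.fixed_mem hVQ (by decide), Q1.fixed_mem (fun v hv => ?_) (by decide)⟩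
  rw [TB.W_eq H, act_mul, act_mul, hQi _ hDQ v hv, hUQ v hv, hDQ v hv]

/-- Transport of lifts. -/
def Tri.conj {hF : Fintype.card F = 3 ^ 2} {g : Cfsg.SU 4 F 3 →* G} {ε : Cfsg.SU 2 F 3 →* G} (T : Tri hF g ε)
    (h : Cfsg.SU 4 F 3) : Tri hF (g.comp (MulAut.conj h).toMonoidHom) ε where
  U := h⁻¹ * T.U * h
  V := h⁻¹ * T.V * h
  W := h⁻¹ * T.W * h
  gU := by simp [mul_assoc, T.gU]
  gV := by simp [mul_assoc, T.gV]
  gW := by simp [mul_assoc, T.gW]
  cU := by rw [show h⁻¹ * T.U * h = h⁻¹ * T.U * (h⁻¹)⁻¹ by rw [inv_inv], conj_pow, T.cU, mul_one, mul_inv_cancel]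
  cV := by rw [show h⁻¹ * T.V * h = h⁻¹ * T.V * (h⁻¹)⁻¹ by rw [inv_inv], conj_pow, T.cV, mul_one, mul_inv_cancel]
  cW := by rw [show h⁻¹ * T.W * h = h⁻¹ * T.W * (h⁻¹)⁻¹ by rw [inv_inv], conj_pow, T.cW, mul_one, mul_inv_cancel]

/-- A map onto an isomorphic finite image is injective. -/
theorem inj_of_range {ψ f : Cfsg.SU 3 F 3 →* G} (h : ψ.range = f.range) (hf : Function.Injective f) :
    Function.Injective ψ := by
  have hb := (Nat.bijective_iff_surjective_and_card ψ.rangeRestrict).2 ⟨ψ.rangeRestrict_surjective, by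
    rw [h]; exact Nat.card_congr (MonoidHom.ofInjective hf).toEquiv⟩
  exact fun a b e => hb.1 (Subtype.ext e)

/-- Two standard pairs in an image of the group of degree four. -/
theorem exists_four {A B C V V' : Subgroup G} (h : Cfsg.IsStandardUnitaryPair V A B F 3)
    (h' : Cfsg.IsStandardUnitaryPair V' B C F 3) (hcomm : ∀ x ∈ A, ∀ y ∈ C, x * y = y * x)
    (g : Cfsg.SU 4 F 3 →* ↥(V ⊔ V')) (hg : Function.Surjective g) :
    ∃ φ : Cfsg.SU 4 F 3 →* G, φ.range = V ⊔ V' ∧
      (φ.comp (emb (k := 3) 0 (by omega))).range = V ∧ (φ.comp (emb (k := 3) 1 (by omega))).range = V' ∧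
      (φ.comp (emb (k := 2) 0 (by omega))).range = A ∧ (φ.comp (emb (k := 2) 1 (by omega))).range = B ∧
      (φ.comp (emb (k := 2) 2 (by omega))).range = C ∧
      Function.Injective (φ.comp (emb (k := 3) 0 (by omega))) ∧
      Function.Injective (φ.comp (emb (k := 3) 1 (by omega))) := by
  classical
  obtain ⟨f, hf⟩ := exists_good hF h
  obtain ⟨f', hf'⟩ := exists_good hF h'
  have fi := good_injective hF hf
  have fi' := good_injective hF hf'
  set g0 : Cfsg.SU 4 F 3 →* G := (V ⊔ V').subtype.comp g with hg0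
  have hr : g0.range = V ⊔ V' := by
    rw [hg0, MonoidHom.range_comp, MonoidHom.range_eq_top.2 hg, ← MonoidHom.range_eq_map, Subgroup.range_subtype]
  have hV : V ≤ g0.range := hr ▸ le_sup_left
  have hV' : V' ≤ g0.range := hr ▸ le_sup_right
  have hlA : (f.comp left2).range ≤ g0.range := le_trans (fun _ ⟨x, hx⟩ => hf.range ▸ ⟨left2 x, hx⟩) hV
  have hlB : (f.comp right2).range ≤ g0.range := le_trans (fun _ ⟨x, hx⟩ => hf.range ▸ ⟨right2 x, hx⟩) hV
  have hlC : (f'.comp right2).range ≤ g0.range := le_trans (fun _ ⟨x, hx⟩ => hf'.range ▸ ⟨right2 x, hx⟩) hV'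
  have H := cov_of hF g0 hf.left_inj hlA
  obtain ⟨TA⟩ := H.exists_tri (hF := hF) hlA
  obtain ⟨TB⟩ := H.exists_tri (hF := hF) hlB
  obtain ⟨TC⟩ := H.exists_tri (hF := hF) hlC
  have notscal : ∀ (z : Cfsg.SU 4 F 3) (y : Cfsg.SU 3 F 3), g0 z = f y → y ≠ 1 → ∀ c : F, mat z ≠ c • 1 := by
    intro z y hz hy c hc
    refine hy (center_three hF (Subgroup.mem_center_iff.2 fun y' => fi ?_))
    obtain ⟨x, hx⟩ := hV (hf.range ▸ ⟨y', rfl⟩ : f y' ∈ V)
    rw [map_mul, map_mul, ← hz, ← hx, ← map_mul, ← map_mul]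
    congr 1
    exact mat_ext (by rw [mat_mul, mat_mul, hc, Matrix.smul_mul, Matrix.mul_smul, Matrix.one_mul, Matrix.mul_one])
  obtain ⟨hm1, hm2⟩ := left2_m_ne hF
  set y1 := left2 (dE hF * dE hF) with hy1
  set y2 := right2 (dE hF * dE hF) with hy2
  have hy12 : y1 * y2 ≠ 1 := fun e => by
    have e1 := congrArg Norm.mat e
    rw [mat_mul, hy1, hy2, Norm.mat_left2, Norm.mat_right2, Norm.mat_one] at e1
    have e2 := congrFun (congrFun e1 0) 0
    simp [Matrix.mul_apply, Fin.sum_univ_three, mat_m] at e2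
    exact two_ne hF (by linear_combination -e2)
  have hc01 : Commute TA.s TB.s := by
    have hyd : y1 * right2 (dE hF) = right2 (dE hF) * y1 := mat_ext (by
      rw [mat_mul, mat_mul, hy1, Norm.mat_left2, Norm.mat_right2, mat_m]
      ext i k
      fin_cases i <;> fin_cases k <;> simp [Matrix.mul_apply, Fin.sum_univ_three, dE, mat_mk])
    set D := TB.D
    have hz : g0 (TA.s * D * TA.s⁻¹ * D⁻¹) = 1 := by
      rw [map_mul, map_mul, map_mul, map_inv, map_inv, TA.gs, TB.gD]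
      show f y1 * f (right2 (dE hF)) * (f y1)⁻¹ * (f (right2 (dE hF)))⁻¹ = 1
      rw [← map_mul, hyd, map_mul, mul_inv_cancel_right, mul_inv_cancel]
    set z := TA.s * D * TA.s⁻¹ * D⁻¹ with hzdef
    have hzc := H.central z hz
    have hsinv : TA.s⁻¹ = TA.s := inv_eq_of_mul_eq_one_right (TA.s_sq H)
    have e1 : TA.s * D = z * D * TA.s := by rw [hzdef]; group
    have hzz : z * z = 1 := by
      have e2 : D = z * z * D := by
        calc D = TA.s * (TA.s * D) := by rw [← mul_assoc, TA.s_sq H, one_mul]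
          _ = TA.s * z * (D * TA.s) := by rw [e1]; simp [mul_assoc]
          _ = z * (TA.s * D) * TA.s := by rw [(hzc TA.s).symm.eq]; simp [mul_assoc]
          _ = z * z * D := by rw [e1]; simp [mul_assoc, TA.s_sq H]
      exact mul_eq_right.1 e2.symm
    have hsDD : Commute TA.s (D * D) := by
      show _ = _
      calc TA.s * (D * D) = z * D * (TA.s * D) := by conv_lhs => rw [← mul_assoc TA.s D D, e1, mul_assoc (z * D)]
        _ = z * (D * z) * D * TA.s := by rw [e1]; simp [mul_assoc]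
        _ = (D * D) * TA.s := by rw [(hzc D).symm.eq, ← mul_assoc z, hzz, one_mul]
    have hz2 : g0 ((D * D)⁻¹ * TB.s) = 1 := by
      rw [map_mul, map_inv, TB.gs, map_mul, TB.gD, ← map_mul, inv_mul_cancel]
    have := hsDD.mul_right ((H.central _ hz2 TA.s).symm)
    rwa [mul_inv_cancel_left] at this
  have g01 : g0 (TA.s * TB.s) = f (y1 * y2) := by rw [map_mul, map_mul, TA.gs, TB.gs]; rfl
  obtain ⟨h0, e0, e1⟩ := exists_frame hF TA.s TB.s (TA.s_sq H) (TB.s_sq H) hc01
    (notscal _ y1 TA.gs hm1) (notscal _ y2 TB.gs hm2) (notscal _ _ g01 hy12)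
  set θ := g0.comp (MulAut.conj h0).toMonoidHom with hθ
  have hrθ : θ.range = g0.range := by
    rw [hθ, MonoidHom.range_comp, MonoidHom.range_eq_top.2 (MulAut.conj h0).surjective, ← MonoidHom.range_eq_map]
  have Hθ := cov_of hF θ hf.left_inj (hrθ.symm ▸ hlA)
  have hs : ∀ {ε : Cfsg.SU 2 F 3 →* G} (T : Tri hF g0 ε), (T.conj h0).s = h0⁻¹ * T.s * h0 := fun T => by
    simp [Tri.conj, Tri.s, Tri.D, Tri.R, mul_assoc]
  obtain ⟨⟨a1, a2, a3⟩, ⟨b1, b2, b3⟩, ⟨c1, c2, c3⟩⟩ := lifts_mem hF Hθ hf hf' hcomm (hrθ.symm ▸ hV)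
    (TA.conj h0) (TB.conj h0) (TC.conj h0) (by rw [hs]; exact e0) (by rw [hs]; exact e1)
  have blockeq : ∀ {ε : Cfsg.SU 2 F 3 →* G} (T : Tri hF θ ε) (i : ℕ) (hi : i + 2 ≤ 4) (S : Finset (Fin 4)),
      (∀ j : Fin 4, j ∈ S ↔ i ≤ (j : ℕ) ∧ (j : ℕ) < i + 2) → Function.Injective ε →
      T.U ∈ SOn S → T.V ∈ SOn S → T.W ∈ SOn S → (θ.comp (emb (k := 2) i hi)).range = ε.range := by
    intro ε T i hi S hS hε hU hV hW
    have hle := range_le hF T hU hV hW
    rw [← range_emb (F := F) (q := 3) (k := 2) (by norm_num) i hi hS, ← MonoidHom.range_comp] at hle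
    refine (Subgroup.eq_of_le_of_card_ge hle ?_).symm
    rw [← Nat.card_congr (MonoidHom.ofInjective hε).toEquiv]
    exact Nat.card_le_card_of_surjective _ (θ.comp (emb (k := 2) i hi)).rangeRestrict_surjective
  have eA := (blockeq (TA.conj h0) 0 (by omega) _ (by decide) hf.left_inj a1 a2 a3).trans hf.left
  have eB := (blockeq (TB.conj h0) 1 (by omega) _ (by decide) hf.right_inj b1 b2 b3).trans hf.right
  have eC := (blockeq (TC.conj h0) 2 (by omega) _ (by decide) hf'.right_inj c1 c2 c3).trans hf'.right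
  have sup3 : ∀ ψ : Cfsg.SU 3 F 3 →* G, ψ.range = (ψ.comp left2).range ⊔ (ψ.comp right2).range := fun ψ => by
    have htop : (left2 (F := F) (q := 3)).range ⊔ right2.range = ⊤ := gen_top hF le_rfl (by omega) _ fun i hi x => by
      rcases (by omega : i = 0 ∨ i = 1) with rfl | rfl
      · exact Subgroup.mem_sup_left ⟨x, rfl⟩
      · exact Subgroup.mem_sup_right ⟨x, rfl⟩
    rw [MonoidHom.range_comp, MonoidHom.range_comp, ← Subgroup.map_sup, htop, ← MonoidHom.range_eq_map]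
  have ecomp : ∀ (j i : ℕ) (hi : i + 2 ≤ 3) (hj : j + 3 ≤ 4),
      (θ.comp (emb (k := 3) j hj)).comp (emb (k := 2) i hi) = θ.comp (emb (j + i) (by omega)) := fun j i hi hj =>
    MonoidHom.ext fun x => congrArg θ (emb_emb i j hi hj x)
  have r0 : (θ.comp (emb (k := 3) 0 (by omega))).range = f.range := by
    rw [sup3, left2, right2, ecomp 0 0, ecomp 0 1, eA, eB, sup3 f, hf.left, hf.right]
  have r1 : (θ.comp (emb (k := 3) 1 (by omega))).range = f'.range := by
    rw [sup3, left2, right2, ecomp 1 0, ecomp 1 1, eB, eC, sup3 f', hf'.left, hf'.right]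
  exact ⟨θ, hrθ.trans hr, r0.trans hf.range, r1.trans hf'.range, eA, eB, eC,
    inj_of_range hF r0 fi, inj_of_range hF r1 fi'⟩

end CfsgLib.Recog.Phan.Small.Three
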