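import Cfsg.Agent.Lib.Recog.Phan.Small.Three.Two

/-!
# Two commuting involutions of the special unitary group of degree four over nine elements
-/

set_option autoImplicit false
set_option linter.unusedSectionVars false

namespace CfsgLib.Recog.Phan.Small.Three

open Matrix CfsgLib.MaxSub CfsgLib.Pres.SUn
open CfsgLib.Recog.Phan.Norm (mat mat_ext mat_mul mem_su_of_mat herm_eq_dot)

variable {F : Type*} [Field F] [Fintype F] (hF : Fintype.card F = 3 ^ 2)

/-- the two signs -/
def sg (a : Bool) : F := if a then -1 else 1

theorem sg_sq (a : Bool) : (sg a : F) * sg a = 1 := by cases a <;> simp [sg]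

theorem conj_sg (a : Bool) : qConj hF (sg a) = sg a := by cases a <;> simp [sg]

theorem prod_sg : ∀ x : Fin 4 → Bool, (∏ i, (sg (x i) : F)) =
    sg (xor (xor (x 0) (x 1)) (xor (x 2) (x 3))) := fun x => by
  rw [Fin.prod_univ_four]
  cases x 0 <;> cases x 1 <;> cases x 2 <;> cases x 3 <;> simp [sg]

theorem sign_table : ∀ x y : Fin 4 → Bool, xor (xor (x 0) (x 1)) (xor (x 2) (x 3)) = false →
    xor (xor (y 0) (y 1)) (xor (y 2) (y 3)) = false → (∃ i, x i ≠ x 0) → (∃ i, y i ≠ y 0) →
    (∃ i, xor (x i) (y i) ≠ xor (x 0) (y 0)) →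
    ∀ k, ∃ i, x i = (![true, true, false, false] : Fin 4 → Bool) k ∧
      y i = (![false, true, true, false] : Fin 4 → Bool) k := by
  decide

include hF

/-- An orthonormal basis of common eigenvectors of two commuting involutions. -/
theorem exists_orth {n : ℕ} (s t : Cfsg.SU n F 3) (hs : s * s = 1) (ht : t * t = 1) (hc : Commute s t) :
    ∀ m, m ≤ n → ∃ (b : Fin m → Fin n → F) (x y : Fin m → Bool),
      (∀ i j, Cfsg.hermForm n F 3 (b i) (b j) = if i = j then 1 else 0) ∧
      (∀ i, act s (b i) = (sg (x i) : F) • b i) ∧ ∀ i, act t (b i) = (sg (y i) : F) • b i := by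
  classical
  have hf := isUnitaryForm_hermForm hF n
  intro m
  induction m with
  | zero => exact fun _ => ⟨Fin.elim0, Fin.elim0, Fin.elim0, fun i => i.elim0, fun i => i.elim0, fun i => i.elim0⟩
  | succ m ih =>
    intro hm
    obtain ⟨b, x, y, hon, hbs, hbt⟩ := ih (by omega)
    let w : Bool → (Fin n → F) → Fin n → F := fun a v => v + (sg a : F) • act s v
    let P : Bool → Bool → (Fin n → F) → Fin n → F := fun a c v => w a v + (sg c : F) • act t (w a v)
    have hss : ∀ v, act s (act s v) = v := fun v => by rw [← act_mul, hs, act_one]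
    have htt : ∀ v, act t (act t v) = v := fun v => by rw [← act_mul, ht, act_one]
    have hst : ∀ v, act s (act t v) = act t (act s v) := fun v => by rw [← act_mul, hc.eq, act_mul]
    have hws : ∀ a v, act s (w a v) = (sg a : F) • w a v := fun a v => by
      simp only [w, act_add, act_smul, hss, smul_add, smul_smul, sg_sq, one_smul, add_comm]
    have hPs : ∀ a c v, act s (P a c v) = (sg a : F) • P a c v := fun a c v => by
      simp only [P, act_add, act_smul, hst, hws, smul_add]
      rw [smul_comm]
    have hPt : ∀ a c v, act t (P a c v) = (sg c : F) • P a c v := fun a c v => by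
      simp only [P, act_add, act_smul, htt, smul_add, smul_smul, sg_sq, one_smul, add_comm]
    have hsum : ∀ v, P true true v + P true false v + (P false true v + P false false v) = v := fun v => by
      funext i
      simp only [P, w, sg, act_add, act_smul, Pi.add_apply, Pi.smul_apply, smul_eq_mul, if_true,
        Bool.false_eq_true, if_false]
      linear_combination (v i) * three_zero hF
    have heig : ∀ (g : Cfsg.SU n F 3) (a : Bool) (v z : Fin n → F), act g z = (sg a : F) • z →
        Cfsg.hermForm n F 3 (act g v) z = sg a * Cfsg.hermForm n F 3 v z := fun g a v z hz => by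
      have h := act_herm g v z
      rw [hz, herm_smul_right hf, conj_sg] at h
      rw [← h, ← mul_assoc, sg_sq, one_mul]
    have hpr : ∀ a c v z, act s z = (sg a : F) • z → act t z = (sg c : F) • z →
        Cfsg.hermForm n F 3 (P a c v) z = Cfsg.hermForm n F 3 v z := fun a c v z h h' => by
      simp only [P, w, hf.add_left, hf.smul_left, heig _ _ _ _ h', heig _ _ _ _ h]
      linear_combination (sg c * sg c + 1) * Cfsg.hermForm n F 3 v z * sg_sq (F := F) a +
        2 * Cfsg.hermForm n F 3 v z * sg_sq (F := F) c + Cfsg.hermForm n F 3 v z * three_zero hF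
    have hPb : ∀ a c v, (∀ j, Cfsg.hermForm n F 3 v (b j) = 0) →
        ∀ j, Cfsg.hermForm n F 3 (P a c v) (b j) = 0 := fun a c v hv j => by
      simp only [P, w, hf.add_left, hf.smul_left, heig _ _ _ _ (hbt j), heig _ _ _ _ (hbs j), hv, mul_zero, add_zero]
    obtain ⟨a, c, z, hzb, hz⟩ : ∃ a c v, (∀ j, Cfsg.hermForm n F 3 v (b j) = 0) ∧
        Cfsg.hermForm n F 3 (P a c v) (P a c v) ≠ 0 := by
      by_contra hall
      push Not at hall
      -- polarise
      have hzero : ∀ v u, (∀ j, Cfsg.hermForm n F 3 v (b j) = 0) → (∀ j, Cfsg.hermForm n F 3 u (b j) = 0) →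
          Cfsg.hermForm n F 3 v u = 0 := by
        intro v u hv hu
        have hP : ∀ a c, Cfsg.hermForm n F 3 v (P a c u) = 0 := fun a c => by
          rw [← hpr a c v _ (hPs a c u) (hPt a c u)]
          have key : ∀ k : F, qConj hF k * Cfsg.hermForm n F 3 (P a c v) (P a c u) +
              k * Cfsg.hermForm n F 3 (P a c u) (P a c v) = 0 := fun k => by
            have hPadd : P a c (v + k • u) = P a c v + k • P a c u := by
              simp only [P, w, act_add, act_smul, smul_add, smul_comm k]
              abel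
            have h0 := hall a c (v + k • u) fun j => by rw [hf.add_left, hf.smul_left, hv, hu, mul_zero, add_zero]
            rw [hPadd] at h0
            simp only [hf.add_left, hf.smul_left, herm_add_right hf, herm_smul_right hf, hall a c v hv,
              hall a c u hu, mul_zero, add_zero, zero_add] at h0
            exact h0
          have e1 := key 1
          have e2 := key (jj hF)
          rw [map_one] at e1
          rw [conj_jj] at e2
          have h2 : (2 * jj hF) * Cfsg.hermForm n F 3 (P a c v) (P a c u) = 0 := by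
            linear_combination jj hF * e1 - e2
          exact (mul_eq_zero.1 h2).resolve_left (mul_ne_zero (two_ne hF) (jj_ne hF))
        rw [← hsum u]
        simp only [herm_add_right hf, hP, add_zero]
      let pr : (Fin n → F) → Fin n → F := fun v => v - ∑ i, Cfsg.hermForm n F 3 v (b i) • b i
      have hlin : ∀ u, ∀ z : Fin n → F, ∀ c : Fin m → F,
          Cfsg.hermForm n F 3 (z - ∑ i, c i • b i) u =
            Cfsg.hermForm n F 3 z u - ∑ i, c i * Cfsg.hermForm n F 3 (b i) u := fun u z c => by
        simp only [Cfsg.hermForm, Pi.sub_apply, Finset.sum_apply, Pi.smul_apply, smul_eq_mul, sub_mul,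
          Finset.sum_sub_distrib, Finset.sum_mul, Finset.mul_sum]
        rw [Finset.sum_comm]
        simp only [mul_assoc]
      have hpb : ∀ v j, Cfsg.hermForm n F 3 (pr v) (b j) = 0 := fun v j => by
        simp [pr, hlin, hon]
      have hpz : ∀ v, pr v = 0 := fun v => funext fun l => by
        rw [Pi.zero_apply, ← herm_single_right (q := 3) (by norm_num) (pr v) l,
          hf.herm, show Pi.single l (1 : F) = pr (Pi.single l 1) +
            ∑ i, Cfsg.hermForm n F 3 (Pi.single l 1) (b i) • b i from (sub_add_cancel _ _).symm]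
        have hsumr : ∀ c : Fin m → F, Cfsg.hermForm n F 3 (∑ i, c i • b i) (pr v) = 0 := fun c => by
          simp only [Cfsg.hermForm, Finset.sum_apply, Pi.smul_apply, smul_eq_mul, Finset.sum_mul]
          rw [Finset.sum_comm]
          refine Finset.sum_eq_zero fun i _ => ?_
          simp only [mul_assoc, ← Finset.mul_sum]
          rw [show ∑ k, b i k * pr v k ^ 3 = Cfsg.hermForm n F 3 (b i) (pr v) from rfl,
            herm_eq_zero_comm hf (hpb v i), mul_zero]
        rw [hf.add_left, hsumr, add_zero, hzero _ _ (hpb _) (hpb v), map_zero]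
      have htop : (⊤ : Submodule F (Fin n → F)) ≤ Submodule.span F (Set.range b) := fun v _ => by
        rw [sub_eq_zero.1 (hpz v)]
        exact sum_mem fun k _ => Submodule.smul_mem _ _ (Submodule.subset_span ⟨k, rfl⟩)
      have h1 := Submodule.finrank_mono htop
      rw [finrank_top, Module.finrank_fin_fun] at h1
      have h2 : Module.finrank F (Submodule.span F (Set.range b)) ≤ Fintype.card (Fin m) :=
        finrank_range_le_card b
      rw [Fintype.card_fin] at h2
      omega
    obtain ⟨k, hk⟩ := CfsgLib.MaxSub.exists_norm_eq hf (e := (Cfsg.hermForm n F 3 (P a c z) (P a c z))⁻¹)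
      (by rw [map_inv₀, herm_self_fixed hf])
    have hb' : ∀ j, Cfsg.hermForm n F 3 (b j) (P a c z) = 0 := fun j => herm_eq_zero_comm hf (hPb a c z hzb j)
    refine ⟨Fin.cons (k • P a c z) b, Fin.cons a x, Fin.cons c y, fun i j => ?_, fun i => ?_, fun i => ?_⟩
    · refine Fin.cases ?_ (fun i => ?_) i <;> refine Fin.cases ?_ (fun j => ?_) j
      · rw [Fin.cons_zero, hf.smul_left, herm_smul_right hf, ← mul_assoc, hk, inv_mul_cancel₀ hz, if_pos rfl]
      · rw [Fin.cons_zero, Fin.cons_succ, hf.smul_left, hPb a c z hzb, mul_zero,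
          if_neg (Fin.succ_ne_zero j).symm]
      · rw [Fin.cons_zero, Fin.cons_succ, herm_smul_right hf, hb', mul_zero, if_neg (Fin.succ_ne_zero i)]
      · simp [hon, Fin.succ_inj]
    · refine Fin.cases ?_ (fun i => by simpa using hbs i) i
      simp only [Fin.cons_zero]
      rw [act_smul, hPs, smul_comm]
    · refine Fin.cases ?_ (fun i => by simpa using hbt i) i
      simp only [Fin.cons_zero]
      rw [act_smul, hPt, smul_comm]

/-- The frame. -/
theorem exists_frame (s t : Cfsg.SU 4 F 3) (hs : s * s = 1) (ht : t * t = 1) (hc : Commute s t)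
    (hs1 : ∀ c : F, mat s ≠ c • 1) (ht1 : ∀ c : F, mat t ≠ c • 1) (hst : ∀ c : F, mat (s * t) ≠ c • 1) :
    ∃ h : Cfsg.SU 4 F 3, mat (h⁻¹ * s * h) = diagonal ![-1, -1, 1, 1] ∧
      mat (h⁻¹ * t * h) = diagonal ![1, -1, -1, 1] := by
  classical
  have hf := isUnitaryForm_hermForm hF 4
  obtain ⟨b, x, y, hon, hbs, hbt⟩ := exists_orth hF s t hs ht hc 4 le_rfl
  let B : Matrix (Fin 4) (Fin 4) F := fun r i => b i r
  have hB : Bᵀ * B.map (qConj hF) = 1 := by
    ext i j
    rw [Matrix.mul_apply, Matrix.one_apply, ← hon i j, herm_eq_dot hF]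
    rfl
  have hBdet : B.det ≠ 0 := fun h => by
    have := congrArg Matrix.det hB
    rw [det_mul, det_transpose, h, zero_mul, det_one] at this
    exact zero_ne_one this
  have heig : ∀ (g : Cfsg.SU 4 F 3) (z : Fin 4 → Bool), (∀ i, act g (b i) = (sg (z i) : F) • b i) →
      mat g * B = B * diagonal fun i => sg (z i) := fun g z hz => by
    ext r i
    rw [mul_diagonal]
    exact (congrFun (hz i) r).trans (mul_comm _ _)
  have hscal : ∀ (g : Cfsg.SU 4 F 3) (z : Fin 4 → Bool), (∀ i, act g (b i) = (sg (z i) : F) • b i) →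
      (∀ i, z i = z 0) → mat g = (sg (z 0) : F) • 1 := fun g z hz hall => by
    have h := heig g z hz
    rw [show (diagonal fun i => (sg (z i) : F)) = (sg (z 0) : F) • 1 by
      rw [smul_one_eq_diagonal]; exact congrArg _ (funext fun i => by rw [hall i])] at h
    rw [Matrix.mul_smul, Matrix.mul_one, ← Matrix.one_mul B, ← Matrix.smul_mul, Matrix.one_mul] at h
    exact ((B.isUnit_iff_isUnit_det).2 (Ne.isUnit hBdet)).mul_right_cancel h
  have hpar : ∀ (g : Cfsg.SU 4 F 3) (z : Fin 4 → Bool), (∀ i, act g (b i) = (sg (z i) : F) • b i) →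
      xor (xor (z 0) (z 1)) (xor (z 2) (z 3)) = false := fun g z hz => by
    have h := congrArg Matrix.det (heig g z hz)
    rw [det_mul, det_mul, show (mat g).det = 1 from (g : SpecialLinearGroup (Fin 4) F).2, one_mul, det_diagonal,
      prod_sg] at h
    revert h
    cases xor (xor (z 0) (z 1)) (xor (z 2) (z 3))
    · exact fun _ => rfl
    · intro h
      simp only [sg, if_true] at h
      exact absurd ((mul_eq_zero.1 (by linear_combination h : (2 : F) * B.det = 0)).resolve_left (two_ne hF)) hBdet
  have hxy : ∀ i, act (s * t) (b i) = (sg (xor (x i) (y i)) : F) • b i := fun i => by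
    rw [act_mul, hbt, act_smul, hbs, smul_smul]
    cases x i <;> cases y i <;> simp [sg]
  have hne : ∀ (g : Cfsg.SU 4 F 3) (z : Fin 4 → Bool), (∀ i, act g (b i) = (sg (z i) : F) • b i) →
      (∀ c : F, mat g ≠ c • 1) → ∃ i, z i ≠ z 0 := fun g z hz hg => by
    by_contra hall
    push Not at hall
    exact hg _ (hscal g z hz hall)
  choose p hp hp' using sign_table x y (hpar s x hbs) (hpar t y hbt) (hne s x hbs hs1) (hne t y hbt ht1)
    (hne (s * t) _ hxy hst)
  have hpi : Function.Injective p := fun k l h => by
    have e1 := hp k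
    have e2 := hp' k
    rw [h, hp l] at e1
    rw [h, hp' l] at e2
    have key : ∀ a c : Fin 4, (![true, true, false, false] : Fin 4 → Bool) a = (![true, true, false, false] : Fin 4 → Bool) c →
        (![false, true, true, false] : Fin 4 → Bool) a = (![false, true, true, false] : Fin 4 → Bool) c → a = c := by
      decide
    exact key k l e1.symm e2.symm
  -- normalise the determinant
  let C : Matrix (Fin 4) (Fin 4) F := fun r i => b (p i) r
  have hC : Cᵀ * C.map (qConj hF) = 1 := by
    ext i j
    rw [Matrix.mul_apply, Matrix.one_apply, show (if i = j then (1 : F) else 0) = if p i = p j then 1 else 0 by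
      simp [hpi.eq_iff], ← hon (p i) (p j), herm_eq_dot hF]
    rfl
  have hd : C.det * qConj hF C.det = 1 := by
    have := congrArg Matrix.det hC
    rwa [det_mul, det_transpose, det_one, show (C.map (qConj hF)).det = qConj hF C.det from
      ((qConj hF : F →+* F).map_det C).symm] at this
  let l : Fin 4 → F := ![qConj hF C.det, 1, 1, 1]
  have hl : ∀ i, l i * qConj hF (l i) = 1 := fun i => by
    fin_cases i <;> simp [l, qConj_qConj, mul_comm (qConj hF C.det), hd]
  let C' := C * diagonal l
  have hdet : C'.det = 1 := by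
    simp only [C', det_mul, det_diagonal, Fin.prod_univ_four]
    simp [l, hd]
  have hC' : C'ᵀ * C'.map (qConj hF) = 1 := by
    simp only [C', Matrix.map_mul, transpose_mul, diagonal_transpose, Matrix.mul_assoc]
    rw [← Matrix.mul_assoc Cᵀ, hC, Matrix.one_mul, diagonal_map (map_zero _), diagonal_mul_diagonal, ← diagonal_one]
    exact congrArg _ (funext hl)
  let h : Cfsg.SU 4 F 3 := ⟨⟨C', hdet⟩, mem_su_of_mat hF _ hC'⟩
  have hmove : ∀ (g : Cfsg.SU 4 F 3) (e : Fin 4 → F), (∀ i, act g (b (p i)) = e i • b (p i)) →
      mat (h⁻¹ * g * h) = diagonal e := fun g e he => by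
    have h1 : mat g * mat h = mat h * diagonal e := by
      show mat g * (C * diagonal l) = C * diagonal l * diagonal e
      rw [Matrix.mul_assoc C, diagonal_mul_diagonal, ← Matrix.mul_assoc]
      ext r i
      rw [mul_diagonal, mul_diagonal, show (mat g * C) r i = act g (b (p i)) r from rfl, he]
      simp only [C, Pi.smul_apply, smul_eq_mul]
      ring
    rw [mat_mul, mat_mul, Matrix.mul_assoc, h1, ← Matrix.mul_assoc, ← mat_mul, inv_mul_cancel, Norm.mat_one,
      Matrix.one_mul]
  refine ⟨h, hmove s _ fun i => ?_, hmove t _ fun i => ?_⟩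
  · rw [hbs, hp]; fin_cases i <;> rfl
  · rw [hbt, hp']; fin_cases i <;> rfl

end CfsgLib.Recog.Phan.Small.Three
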