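import Cfsg.Agent.Lib.Recog.Phan.Normalise
import Cfsg.Agent.Lib.Recog.Phan.Small.Ladder

/-!
# The special unitary group of degree two over nine elements, by generators
-/

set_option autoImplicit false

namespace CfsgLib.Recog.Phan.Small.Three

open Matrix CfsgLib.MaxSub
open CfsgLib.Recog.Phan.Norm (mat mat_ext mat_mul su_two_shape mem_su_of_mat mat_unitary)

variable {F : Type*} [Field F] [Fintype F] (hF : Fintype.card F = 3 ^ 2)

include hF

theorem three_zero : (3 : F) = 0 := by
  obtain ⟨p, hp⟩ := CharP.exists F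
  haveI : Fact p.Prime := ⟨CharP.char_is_prime F p⟩
  obtain ⟨n, hp', hn⟩ := FiniteField.card F p
  have h3 : p ∣ 3 ^ 2 := by rw [← hF, hn]; exact dvd_pow_self p (by simp)
  obtain rfl : p = 3 := (Nat.prime_dvd_prime_iff_eq hp' Nat.prime_three).1 (hp'.dvd_of_dvd_pow h3)
  exact_mod_cast CharP.cast_eq_zero F 3

theorem two_ne : (2 : F) ≠ 0 := fun h => one_ne_zero (α := F) (by linear_combination three_zero hF - h)

/-- a square root of minus one -/
theorem exists_root : ∃ j : F, j * j = -1 := by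
  obtain ⟨a, ha, ha2⟩ := Norm.exists_norm_one_sq_ne hF (by norm_num)
  rw [qConj_apply hF] at ha
  refine ⟨a, ?_⟩
  have h : (a * a - 1) * (a * a + 1) = 0 := by linear_combination ha
  rcases mul_eq_zero.1 h with h | h
  · exact absurd (by linear_combination h : a ^ 2 = 1) ha2
  · linear_combination h

/-- the chosen square root of minus one -/
noncomputable def jj : F := (exists_root hF).choose

theorem jj_sq : jj hF * jj hF = -1 := (exists_root hF).choose_spec

theorem conj_jj : qConj hF (jj hF) = -jj hF := by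
  rw [qConj_apply hF]; linear_combination (jj hF) * jj_sq hF

theorem jj_ne : jj hF ≠ 0 := fun h => by
  have := jj_sq hF
  rw [h, zero_mul] at this
  exact one_ne_zero (α := F) (by linear_combination this)

/-- the element with first row `a, b` -/
noncomputable def mk (a b : F) (h : a * qConj hF a + b * qConj hF b = 1) : Cfsg.SU 2 F 3 :=
  ⟨⟨!![a, b; -qConj hF b, qConj hF a], by rw [det_fin_two_of]; linear_combination h⟩,
    mem_su_of_mat hF _ (by
      ext i j
      fin_cases i <;> fin_cases j <;> simp [Matrix.mul_apply, Fin.sum_univ_two, qConj_qConj]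
      · linear_combination h
      · ring
      · ring
      · linear_combination h)⟩

theorem mat_mk (a b : F) (h : a * qConj hF a + b * qConj hF b = 1) :
    mat (mk hF a b h) = !![a, b; -qConj hF b, qConj hF a] := rfl

omit [Fintype F] hF in
theorem mat_one : mat (1 : Cfsg.SU 2 F 3) = 1 := rfl

theorem ext_row {x y : Cfsg.SU 2 F 3} (h0 : mat x 0 0 = mat y 0 0) (h1 : mat x 0 1 = mat y 0 1) : x = y := by
  obtain ⟨x0, x1⟩ := su_two_shape hF x
  obtain ⟨y0, y1⟩ := su_two_shape hF y
  refine mat_ext (Matrix.ext fun i j => ?_)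
  fin_cases i <;> fin_cases j
  · exact h0
  · exact h1
  · exact x0.trans (by rw [h1]; exact y0.symm)
  · exact x1.trans (by rw [h0]; exact y1.symm)

theorem row_norm (x : Cfsg.SU 2 F 3) : mat x 0 0 * qConj hF (mat x 0 0) + mat x 0 1 * qConj hF (mat x 0 1) = 1 := by
  obtain ⟨x0, x1⟩ := su_two_shape hF x
  have hd : mat x 0 0 * mat x 1 1 - mat x 0 1 * mat x 1 0 = 1 := by
    rw [← det_fin_two]; exact (x : SpecialLinearGroup (Fin 2) F).2
  rw [x0, x1] at hd
  linear_combination hd

theorem mul_row (x y : Cfsg.SU 2 F 3) : mat (x * y) 0 0 = mat x 0 0 * mat y 0 0 - mat x 0 1 * qConj hF (mat y 0 1) ∧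
    mat (x * y) 0 1 = mat x 0 0 * mat y 0 1 + mat x 0 1 * qConj hF (mat y 0 0) := by
  obtain ⟨y0, y1⟩ := su_two_shape hF y
  rw [mat_mul]
  simp only [Matrix.mul_apply, Fin.sum_univ_two, y0, y1]
  exact ⟨by ring, trivial⟩

/-- diagonal generator -/
noncomputable def dE : Cfsg.SU 2 F 3 :=
  mk hF (jj hF) 0 (by rw [conj_jj, map_zero]; linear_combination -jj_sq hF)

/-- antidiagonal generator -/
noncomputable def rE : Cfsg.SU 2 F 3 :=
  mk hF 0 (-1) (by rw [map_zero, map_neg, map_one]; ring)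

/-- first element of order three -/
noncomputable def uE : Cfsg.SU 2 F 3 :=
  mk hF (1 + jj hF) (1 + jj hF) (by
    rw [map_add, map_one, conj_jj]; linear_combination (-2 : F) * jj_sq hF + three_zero hF)

/-- second element of order three -/
noncomputable def vE : Cfsg.SU 2 F 3 :=
  mk hF (1 + jj hF) (jj hF - 1) (by
    rw [map_add, map_sub, map_one, conj_jj]; linear_combination (-2 : F) * jj_sq hF + three_zero hF)

/-- third element of order three -/
noncomputable def wE : Cfsg.SU 2 F 3 :=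
  mk hF (1 + jj hF) (-(1 + jj hF)) (by
    rw [map_neg, map_add, map_one, conj_jj]; linear_combination (-2 : F) * jj_sq hF + three_zero hF)

theorem cube_of (b : F) (h : (1 + jj hF) * qConj hF (1 + jj hF) + b * qConj hF b = 1) :
    mk hF (1 + jj hF) b h ^ 3 = 1 := by
  have hb : b * qConj hF b = -1 := by
    rw [map_add, map_one, conj_jj] at h; linear_combination h + jj_sq hF
  obtain ⟨r0, r1⟩ := mul_row hF (mk hF (1 + jj hF) b h * mk hF (1 + jj hF) b h) (mk hF (1 + jj hF) b h)
  obtain ⟨s0, s1⟩ := mul_row hF (mk hF (1 + jj hF) b h) (mk hF (1 + jj hF) b h)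
  rw [pow_succ, pow_two]
  refine ext_row hF (r0.trans ?_) (r1.trans ?_)
  · rw [s0, s1]
    simp [mat_mk, mat_one, conj_jj]
    linear_combination -(3 + jj hF) * hb + (3 + jj hF) * jj_sq hF + (jj hF) * three_zero hF
  · rw [s0, s1]
    simp [mat_mk, mat_one, conj_jj]
    linear_combination (-b) * hb + b * jj_sq hF + b * three_zero hF

theorem d_eq : dE hF = uE hF * vE hF := by
  obtain ⟨r0, r1⟩ := mul_row hF (uE hF) (vE hF)
  refine ext_row hF (Eq.trans ?_ r0.symm) (Eq.trans ?_ r1.symm) <;>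
    simp [dE, uE, vE, mat_mk, conj_jj]
  · linear_combination (-2 : F) * jj_sq hF - jj hF * three_zero hF
  · ring

theorem r_eq : rE hF = wE hF * vE hF := by
  obtain ⟨r0, r1⟩ := mul_row hF (wE hF) (vE hF)
  refine ext_row hF (Eq.trans ?_ r0.symm) (Eq.trans ?_ r1.symm) <;>
    simp [rE, wE, vE, mat_mk, conj_jj]
  · ring
  · linear_combination (-2 : F) * jj_sq hF + three_zero hF

theorem u_conj_d : uE hF * dE hF = (rE hF)⁻¹ * uE hF := by
  rw [eq_inv_mul_iff_mul_eq]
  obtain ⟨r0, r1⟩ := mul_row hF (rE hF) (uE hF * dE hF)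
  obtain ⟨s0, s1⟩ := mul_row hF (uE hF) (dE hF)
  refine ext_row hF (r0.trans ?_) (r1.trans ?_) <;>
    rw [s0, s1] <;> simp [rE, uE, dE, mat_mk, conj_jj]
  · linear_combination -jj_sq hF
  · linear_combination -jj_sq hF

theorem u_conj_r : uE hF * rE hF = dE hF * rE hF * uE hF := by
  obtain ⟨r0, r1⟩ := mul_row hF (uE hF) (rE hF)
  obtain ⟨s0, s1⟩ := mul_row hF (dE hF * rE hF) (uE hF)
  obtain ⟨t0, t1⟩ := mul_row hF (dE hF) (rE hF)
  refine ext_row hF (r0.trans (Eq.trans ?_ s0.symm)) (r1.trans (Eq.trans ?_ s1.symm)) <;>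
    rw [t0, t1] <;> simp [rE, uE, dE, mat_mk, conj_jj]
  · linear_combination jj_sq hF
  · linear_combination -jj_sq hF

theorem fixed_cases (x : F) (hx : qConj hF x = x) : x = 0 ∨ x = 1 ∨ x = -1 := by
  rw [qConj_apply hF] at hx
  rcases eq_or_ne x 0 with h | h
  · exact Or.inl h
  · have h1 : x * (x - 1) * (x + 1) = 0 := by linear_combination hx
    rcases mul_eq_zero.1 h1 with h1 | h1
    · rcases mul_eq_zero.1 h1 with h1 | h1
      · exact absurd h1 h
      · exact Or.inr (Or.inl (sub_eq_zero.1 h1))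
    · exact Or.inr (Or.inr (add_eq_zero_iff_eq_neg.1 h1))

theorem unit_roots {a : F} (h : a * qConj hF a = 1) : a = 1 ∨ a = -1 ∨ a = jj hF ∨ a = -jj hF := by
  rw [qConj_apply hF] at h
  have h1 : (a - 1) * (a + 1) * (a - jj hF) * (a + jj hF) = 0 := by
    linear_combination h - (a ^ 2 - 1) * jj_sq hF
  simp only [mul_eq_zero, sub_eq_zero, add_eq_zero_iff_eq_neg] at h1
  tauto

/-- Generation. -/
theorem closure_dru (S : Subgroup (Cfsg.SU 2 F 3)) (hd : dE hF ∈ S) (hr : rE hF ∈ S) (hu : uE hF ∈ S) : S = ⊤ := by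
  -- the diagonal elements
  have hdiag : ∀ x : Cfsg.SU 2 F 3, mat x 0 1 = 0 → x ∈ S := by
    intro x hx
    have hn := row_norm hF x
    rw [hx, zero_mul, add_zero] at hn
    have key : ∀ y : Cfsg.SU 2 F 3, y ∈ S → mat y 0 0 = mat x 0 0 → mat y 0 1 = 0 → x ∈ S :=
      fun y hy h0 h1 => ext_row hF h0 (h1.trans hx.symm) ▸ hy
    rcases unit_roots hF hn with e | e | e | e
    · exact key 1 (one_mem S) (by rw [e]; rfl) rfl
    · refine key (dE hF * dE hF) (mul_mem hd hd) ?_ ?_
      · rw [(mul_row hF _ _).1, e]; simp [dE, mat_mk]; linear_combination jj_sq hF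
      · rw [(mul_row hF _ _).2]; simp [dE, mat_mk]
    · exact key _ hd (by rw [e]; simp [dE, mat_mk]) (by simp [dE, mat_mk])
    · refine key (dE hF * dE hF * dE hF) (mul_mem (mul_mem hd hd) hd) ?_ ?_
      · rw [(mul_row hF _ _).1, (mul_row hF _ _).1, (mul_row hF _ _).2, e]; simp [dE, mat_mk]
        linear_combination jj hF * jj_sq hF
      · rw [(mul_row hF _ _).2, (mul_row hF _ _).1, (mul_row hF _ _).2]; simp [dE, mat_mk]
  have hv : vE hF ∈ S := by
    have : vE hF = (uE hF)⁻¹ * dE hF := by rw [d_eq, inv_mul_cancel_left]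
    rw [this]; exact mul_mem (inv_mem hu) hd
  have hw : wE hF ∈ S := by
    have : wE hF = rE hF * (vE hF)⁻¹ := by rw [r_eq, mul_inv_cancel_right]
    rw [this]; exact mul_mem hr (inv_mem hv)
  have hv' : dE hF * vE hF * (dE hF)⁻¹ ∈ S := mul_mem (mul_mem hd hv) (inv_mem hd)
  refine eq_top_iff.2 fun x _ => ?_
  -- move by a generator to a diagonal element
  suffices h : ∃ y ∈ S, mat (y * x) 0 1 = 0 by
    obtain ⟨y, hy, h0⟩ := h
    simpa using mul_mem (inv_mem hy) (hdiag _ h0)
  set a := mat x 0 0 with ha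
  set b := mat x 0 1 with hb
  have hn := row_norm hF x
  rw [← ha, ← hb] at hn
  have row : ∀ y : Cfsg.SU 2 F 3, mat (y * x) 0 1 = mat y 0 0 * b + mat y 0 1 * qConj hF a :=
    fun y => (mul_row hF y x).2
  have fix : ∀ z : F, qConj hF (z * qConj hF z) = z * qConj hF z := fun z => by
    rw [map_mul, qConj_qConj, mul_comm]
  rcases fixed_cases hF _ (fix a) with h | h | h
  · refine ⟨rE hF, hr, ?_⟩
    have : a = 0 := by
      rcases mul_eq_zero.1 h with h | h
      · exact h
      · exact (map_eq_zero_iff _ (qConj hF).injective).1 h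
    rw [row, this]; simp [rE, mat_mk]
  · have : b * qConj hF b = 0 := by linear_combination hn - h
    have hb0 : b = 0 := by
      rcases mul_eq_zero.1 this with h | h
      · exact h
      · exact (map_eq_zero_iff _ (qConj hF).injective).1 h
    exact ⟨1, one_mem S, by rw [one_mul]; exact hb0⟩
  · -- both rows of norm minus one
    have ha0 : a ≠ 0 := fun e => by rw [e, zero_mul] at h; exact one_ne_zero (α := F) (by linear_combination h)
    set c := b / qConj hF a with hc
    have hca : qConj hF a ≠ 0 := fun e => ha0 ((map_eq_zero_iff _ (qConj hF).injective).1 e)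
    have hbc : b = c * qConj hF a := by rw [hc, div_mul_cancel₀ _ hca]
    have hcn : c * qConj hF c = 1 := by
      have h1 := hn
      rw [hbc, map_mul, qConj_qConj] at h1
      linear_combination (-1 : F) * h1 + (1 + c * qConj hF c) * h - three_zero hF
    have rowc : ∀ y : Cfsg.SU 2 F 3, mat y 0 1 = -(c * mat y 0 0) → mat (y * x) 0 1 = 0 := fun y hy => by
      rw [row, hy, hbc]; ring
    rcases unit_roots hF hcn with e | e | e | e
    · exact ⟨_, hw, rowc _ (by rw [e]; simp [wE, mat_mk])⟩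
    · exact ⟨_, hu, rowc _ (by rw [e]; simp [uE, mat_mk])⟩
    · refine ⟨_, hv', rowc _ ?_⟩
      have hd' : (dE hF)⁻¹ = mk hF (-jj hF) 0 (by
          rw [map_neg, conj_jj, map_zero]; linear_combination -jj_sq hF) := by
        refine inv_eq_of_mul_eq_one_right (ext_row hF ?_ ?_)
        · rw [(mul_row hF _ _).1]; simp [dE, mat_mk, mat_one]
          linear_combination -jj_sq hF
        · rw [(mul_row hF _ _).2]; simp [dE, mat_mk]; rfl
      rw [hd', e, (mul_row hF _ _).2, (mul_row hF _ _).1, (mul_row hF (dE hF * vE hF) _).1,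
        (mul_row hF (dE hF) _).1, (mul_row hF (dE hF) _).2]
      simp [dE, vE, mat_mk, conj_jj]
      linear_combination -(jj hF ^ 2) * jj_sq hF
    · exact ⟨_, hv, rowc _ (by rw [e]; simp [vE, mat_mk]; linear_combination -jj_sq hF)⟩

theorem closure_uvw (S : Subgroup (Cfsg.SU 2 F 3)) (hu : uE hF ∈ S) (hv : vE hF ∈ S) (hw : wE hF ∈ S) : S = ⊤ :=
  closure_dru hF S (d_eq hF ▸ mul_mem hu hv) (r_eq hF ▸ mul_mem hw hv) hu

theorem mat_m : mat (dE hF * dE hF) = -1 := by
  rw [mat_mul, dE, mat_mk, map_zero, neg_zero]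
  ext i j
  fin_cases i <;> fin_cases j <;> simp [Matrix.mul_apply, Fin.sum_univ_two, conj_jj, jj_sq hF]

theorem m_comm (x : Cfsg.SU 2 F 3) : Commute (dE hF * dE hF) x :=
  mat_ext (by rw [mat_mul (dE hF * dE hF) x, mat_mul x, mat_m, Matrix.neg_mul, Matrix.mul_neg, Matrix.one_mul,
    Matrix.mul_one])

theorem m_ne : dE hF * dE hF ≠ 1 := fun h => by
  have e := congrFun (congrFun (congrArg mat h) 0) 0
  rw [mat_m, mat_one] at e
  simp at e
  exact two_ne hF (by linear_combination -e)

theorem r_flip : dE hF * rE hF * dE hF = rE hF := by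
  obtain ⟨r0, r1⟩ := mul_row hF (dE hF * rE hF) (dE hF)
  obtain ⟨t0, t1⟩ := mul_row hF (dE hF) (rE hF)
  refine ext_row hF (r0.trans ?_) (r1.trans ?_) <;> rw [t0, t1] <;> simp [rE, dE, mat_mk, conj_jj]
  linear_combination jj_sq hF

theorem d_comm_r : dE hF * rE hF * (dE hF)⁻¹ * (rE hF)⁻¹ = dE hF * dE hF := by
  have h : dE hF * rE hF = rE hF * (dE hF)⁻¹ := eq_mul_inv_of_mul_eq (r_flip hF)
  rw [h, mul_inv_eq_iff_eq_mul, (m_comm hF (rE hF)).eq]
  have h4 : (dE hF * dE hF) * (dE hF * dE hF) = 1 := mat_ext (by rw [mat_mul, mat_m, mat_one]; simp)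
  rw [mul_assoc, ← _root_.mul_inv_rev]
  exact congrArg _ (inv_eq_of_mul_eq_one_right h4)

theorem w_conj : dE hF * uE hF * (dE hF)⁻¹ = wE hF := by
  rw [mul_inv_eq_iff_eq_mul]
  obtain ⟨r0, r1⟩ := mul_row hF (dE hF) (uE hF)
  obtain ⟨s0, s1⟩ := mul_row hF (wE hF) (dE hF)
  refine ext_row hF (r0.trans (Eq.trans ?_ s0.symm)) (r1.trans (Eq.trans ?_ s1.symm)) <;>
    simp [uE, wE, dE, mat_mk, conj_jj] <;> ring

theorem involution_eq {x : Cfsg.SU 2 F 3} (h : x * x = 1) (h1 : x ≠ 1) : x = dE hF * dE hF := by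
  obtain ⟨r0, r1⟩ := mul_row hF x x
  rw [h] at r0 r1
  rw [mat_one] at r0 r1
  simp at r0 r1
  have hn := row_norm hF x
  set a := mat x 0 0 with ha
  set b := mat x 0 1 with hb
  have ht : a + qConj hF a ≠ 0 ∨ b = 0 := by
    by_contra hc
    push Not at hc
    refine one_ne_zero (α := F) ?_
    linear_combination three_zero hF - r0 + hn - a * hc.1
  have hb0 : b = 0 := by
    rcases ht with ht | ht
    · refine (mul_eq_zero.1 (?_ : b * (a + qConj hF a) = 0)).resolve_right ht
      linear_combination -r1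
    · exact ht
  have ha1 : a = 1 ∨ a = -1 := by
    have : (a - 1) * (a + 1) = 0 := by
      rw [hb0] at r0
      linear_combination -r0
    rcases mul_eq_zero.1 this with h | h
    · exact Or.inl (sub_eq_zero.1 h)
    · exact Or.inr (add_eq_zero_iff_eq_neg.1 h)
  rcases ha1 with e | e
  · exact absurd (ext_row hF (by rw [← ha, e, mat_one]; simp) (by rw [← hb, hb0, mat_one]; simp)) h1
  · exact ext_row hF (by rw [← ha, e, mat_m]; simp) (by rw [← hb, hb0, mat_m]; simp)

end CfsgLib.Recog.Phan.Small.Three
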