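import Cfsg.Agent.Lib.Recog.Phan.Small.Three.Twist
import Cfsg.Agent.Lib.Recog.Phan.Small.Three.Two
import Cfsg.Agent.Lib.Recog.Phan.Gen

/-!
# Gluing two normalised images of the group of degree four over nine elements along the group of degree three
-/

set_option autoImplicit false
set_option linter.unusedSectionVars false

namespace CfsgLib.Recog.Phan.Small.Three

open Matrix CfsgLib.MaxSub CfsgLib.Pres.SUn
open CfsgLib.Recog.Phan.Norm (mat mat_ext mat_mul mat_left2 mat_right2 su_two_shape)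

variable {F : Type*} [Field F] [Fintype F] (hF : Fintype.card F = 3 ^ 2)

include hF

theorem u_unique {y : Cfsg.SU 2 F 3} (h3 : y ^ 3 = 1) (hd : y * dE hF = (rE hF)⁻¹ * y)
    (hr : y * rE hF = dE hF * rE hF * y) : y = uE hF := by
  set z := y⁻¹ * uE hF with hzdef
  have conj : ∀ x t : Cfsg.SU 2 F 3, y * x = t * y → uE hF * x = t * uE hF → z * x = x * z := fun x t h1 h2 => by
    have h1' : y⁻¹ * t = x * y⁻¹ := by rw [eq_mul_inv_iff_mul_eq, mul_assoc, ← h1, inv_mul_cancel_left]
    rw [hzdef, mul_assoc, h2, ← mul_assoc, h1', mul_assoc]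
  have hzd := conj _ _ hd (u_conj_d hF)
  have hzr := conj _ _ hr (u_conj_r hF)
  set a := mat z 0 0 with ha
  set b := mat z 0 1 with hb
  have hb0 : b = 0 := by
    have := congrArg (fun w => mat w 0 1) hzd
    simp only [(mul_row hF _ _).2] at this
    simp [dE, mat_mk, conj_jj, ← ha, ← hb] at this
    have h2 : (2 * jj hF) * b = 0 := by linear_combination -this
    exact (mul_eq_zero.1 h2).resolve_left (mul_ne_zero (two_ne hF) (jj_ne hF))
  have hfix : qConj hF a = a := by
    have := congrArg (fun w => mat w 0 1) hzr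
    simp only [(mul_row hF _ _).2] at this
    simp [rE, mat_mk, ← ha, ← hb] at this
    exact this.symm
  have hn := row_norm hF z
  rw [← ha, ← hb, hfix, hb0, zero_mul, add_zero] at hn
  have hzz : z * z = 1 := ext_row hF
    (by rw [(mul_row hF _ _).1, ← ha, ← hb, hb0, mat_one]; simp [hn])
    (by rw [(mul_row hF _ _).2, ← ha, ← hb, hb0, mat_one]; simp)
  by_contra hne
  have hz1 : z ≠ 1 := fun h => hne (inv_mul_eq_one.1 h)
  have hzm := involution_eq hF hzz hz1
  have hu : uE hF = y * (dE hF * dE hF) := by rw [← hzm, hzdef, mul_inv_cancel_left]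
  have h := cube_of hF (1 + jj hF) (by
    rw [map_add, map_one, conj_jj]; linear_combination (-2 : F) * jj_sq hF + three_zero hF)
  change uE hF ^ 3 = 1 at h
  rw [hu, ((m_comm hF y).symm).mul_pow, h3, one_mul, pow_succ, pow_two] at h
  have hmm : (dE hF * dE hF) * (dE hF * dE hF) = 1 := hzm ▸ hzz
  rw [hmm, one_mul] at h
  exact m_ne hF h

theorem left_d_right_m : Commute (left2 (dE hF)) (right2 (dE hF * dE hF)) := mat_ext (by
  rw [mat_mul (left2 _) (right2 _), mat_mul (right2 _) (left2 _), mat_left2, mat_right2, mat_m]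
  ext i k
  fin_cases i <;> fin_cases k <;> simp [Matrix.mul_apply, Fin.sum_univ_three, dE, mat_mk])

theorem right_d_left_m : Commute (right2 (dE hF)) (left2 (dE hF * dE hF)) := mat_ext (by
  rw [mat_mul (right2 _) (left2 _), mat_mul (left2 _) (right2 _), mat_left2, mat_right2, mat_m]
  ext i k
  fin_cases i <;> fin_cases k <;> simp [Matrix.mul_apply, Fin.sum_univ_three, dE, mat_mk])

theorem diag_of_left {y : Cfsg.SU 2 F 3} (h : Commute (left2 y) (right2 (dE hF * dE hF))) : mat y 0 1 = 0 := by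
  have e := congrFun (congrFun (congrArg mat h.eq) 0) 1
  rw [mat_mul, mat_mul, mat_left2, mat_right2, mat_m] at e
  simp [Matrix.mul_apply, Fin.sum_univ_three] at e
  have : (2 : F) * mat y 0 1 = 0 := by linear_combination -e
  exact (mul_eq_zero.1 this).resolve_left (two_ne hF)

theorem diag_of_right {y : Cfsg.SU 2 F 3} (h : Commute (right2 y) (left2 (dE hF * dE hF))) : mat y 0 1 = 0 := by
  have e := congrFun (congrFun (congrArg mat h.eq) 1) 2
  rw [mat_mul, mat_mul, mat_left2, mat_right2, mat_m] at e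
  simp [Matrix.mul_apply, Fin.sum_univ_three] at e
  have : (2 : F) * mat y 0 1 = 0 := by linear_combination e
  exact (mul_eq_zero.1 this).resolve_left (two_ne hF)

theorem root_of_diag {y : Cfsg.SU 2 F 3} (h0 : mat y 0 1 = 0) (h : y * y ≠ 1) :
    (mat y 0 0 = jj hF ∨ mat y 0 0 = -jj hF) := by
  have hn := row_norm hF y
  rw [h0, zero_mul, add_zero] at hn
  rcases unit_roots hF hn with e | e | e | e
  · refine absurd (ext_row hF ?_ ?_) h
    · rw [(mul_row hF _ _).1, h0, e, mat_one]; simp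
    · rw [(mul_row hF _ _).2, h0, e, mat_one]; simp
  · refine absurd (ext_row hF ?_ ?_) h
    · rw [(mul_row hF _ _).1, h0, e, mat_one]; simp
    · rw [(mul_row hF _ _).2, h0, e, mat_one]; simp
  · exact Or.inl e
  · exact Or.inr e

theorem anti_of_flip {y z : Cfsg.SU 2 F 3} {a : F} (hz : mat z 0 0 = a) (hz0 : mat z 0 1 = 0)
    (ha : a = jj hF ∨ a = -jj hF) (h : z * y * z = y) : mat y 0 0 = 0 := by
  have e := congrArg (fun w => mat w 0 0) h
  simp only [(mul_row hF _ _).1, (mul_row hF _ _).2, hz, hz0, map_zero, zero_mul, mul_zero, sub_zero] at e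
  have haa : a * a = -1 := by rcases ha with rfl | rfl <;> linear_combination jj_sq hF
  have : (2 : F) * mat y 0 0 = 0 := by linear_combination -e + mat y 0 0 * haa
  exact (mul_eq_zero.1 this).resolve_left (two_ne hF)

theorem lrl_comm : Commute (left2 (rE hF) * right2 (rE hF) * left2 (rE hF))
    (left2 (dE hF) * (right2 (dE hF))⁻¹) := by
  have hd : (dE hF)⁻¹ = mk hF (-jj hF) 0 (by rw [map_neg, conj_jj, map_zero]; linear_combination -jj_sq hF) := by
    refine inv_eq_of_mul_eq_one_right (ext_row hF ?_ ?_)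
    · rw [(mul_row hF _ _).1]; simp [dE, mat_mk, mat_one]; linear_combination -jj_sq hF
    · rw [(mul_row hF _ _).2]; simp [dE, mat_mk]; rfl
  rw [← map_inv, hd]
  refine mat_ext ?_
  simp only [mat_mul, mat_left2, mat_right2]
  ext i k
  fin_cases i <;> fin_cases k <;>
    simp [Matrix.mul_apply, Fin.sum_univ_three, dE, rE, mat_mk, conj_jj]

/-- An automorphism of the group of degree three keeping both blocks is semilinear diagonal. -/
theorem aut_blocks (β : MulAut (Cfsg.SU 3 F 3)) (hl : ∀ x, ∃ y, β (left2 x) = left2 y)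
    (hr : ∀ x, ∃ y, β (right2 x) = right2 y) :
    ∃ (d : Fin 3 → F) (τ : F ≃+* F), (∀ i, d i * qConj hF (d i) = 1) ∧
      ∀ (α : Cfsg.SU 3 F 3 →* Cfsg.SU 3 F 3),
        (∀ A i j, mat (α A) i j = d i * τ (mat A i j) * (d j)⁻¹) → ∀ x, α x = β x := by
  choose yl hyl using hl
  choose yr hyr using hr
  have il : Function.Injective (left2 (F := F) (q := 3)) := blk_injective _
  have ir : Function.Injective (right2 (F := F) (q := 3)) := blk_injective _
  have ylm : ∀ a b, yl (a * b) = yl a * yl b := fun a b => il (by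
    rw [map_mul, ← hyl, ← hyl, ← hyl, map_mul, map_mul])
  have yrm : ∀ a b, yr (a * b) = yr a * yr b := fun a b => ir (by
    rw [map_mul, ← hyr, ← hyr, ← hyr, map_mul, map_mul])
  have ylone : ∀ a, yl a = 1 → a = 1 := fun a h => il (β.injective (by rw [hyl, h, map_one, map_one]))
  have yrone : ∀ a, yr a = 1 → a = 1 := fun a h => ir (β.injective (by rw [hyr, h, map_one, map_one]))
  have yl1 : yl 1 = 1 := mul_eq_left.1 ((ylm 1 1).symm.trans (by rw [mul_one]))
  have yr1 : yr 1 = 1 := mul_eq_left.1 ((yrm 1 1).symm.trans (by rw [mul_one]))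
  set m := dE hF * dE hF with hm
  have mm : m * m = 1 := mat_ext (by rw [mat_mul, hm, mat_m, Norm.mat_one]; simp)
  have mne := m_ne hF
  have hml : yl m = m := involution_eq hF (by rw [← ylm, mm, yl1]) fun h => mne (ylone _ h)
  have hmr : yr m = m := involution_eq hF (by rw [← yrm, mm, yr1]) fun h => mne (yrone _ h)
  have dl0 : mat (yl (dE hF)) 0 1 = 0 := diag_of_left hF (by
    have h : Commute (β (left2 (dE hF))) (β (right2 m)) := (left_d_right_m hF).map β
    rwa [hyl, hyr, hmr] at h)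
  have dr0 : mat (yr (dE hF)) 0 1 = 0 := diag_of_right hF (by
    have h : Commute (β (right2 (dE hF))) (β (left2 m)) := (right_d_left_m hF).map β
    rwa [hyl, hyr, hml] at h)
  have da := root_of_diag hF dl0 (by rw [← ylm]; exact fun h => mne (ylone _ h))
  have db := root_of_diag hF dr0 (by rw [← yrm]; exact fun h => mne (yrone _ h))
  set a := mat (yl (dE hF)) 0 0 with ha
  set b := mat (yr (dE hF)) 0 0 with hb
  have rl0 : mat (yl (rE hF)) 0 0 = 0 := anti_of_flip hF rfl dl0 da (by rw [← ylm, ← ylm, r_flip])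
  have rr0 : mat (yr (rE hF)) 0 0 = 0 := anti_of_flip hF rfl dr0 db (by rw [← yrm, ← yrm, r_flip])
  set x := mat (yl (rE hF)) 0 1 with hx
  set y := mat (yr (rE hF)) 0 1 with hy
  have nx : x * qConj hF x = 1 := by
    have := row_norm hF (yl (rE hF)); rwa [rl0, zero_mul, zero_add] at this
  have ny : y * qConj hF y = 1 := by
    have := row_norm hF (yr (rE hF)); rwa [rr0, zero_mul, zero_add] at this
  have x0 : x ≠ 0 := fun h => by simpa [h] using nx
  have y0 : y ≠ 0 := fun h => by simpa [h] using ny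
  obtain ⟨sl1, sl2⟩ := su_two_shape hF (yl (dE hF))
  obtain ⟨sr1, sr2⟩ := su_two_shape hF (yr (dE hF))
  obtain ⟨tl1, tl2⟩ := su_two_shape hF (yl (rE hF))
  obtain ⟨tr1, tr2⟩ := su_two_shape hF (yr (rE hF))
  rw [← ha] at sl2; rw [← hb] at sr2; rw [← hx] at tl1; rw [← hy] at tr1
  rw [dl0, map_zero, neg_zero] at sl1; rw [dr0, map_zero, neg_zero] at sr1
  rw [rl0, map_zero] at tl2; rw [rr0, map_zero] at tr2
  have hca : qConj hF a = -a := by rcases da with e | e <;> rw [e] <;> simp [conj_jj]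
  have hcb : qConj hF b = -b := by rcases db with e | e <;> rw [e] <;> simp [conj_jj]
  have hab : a = b := by
    have h := (lrl_comm hF).map β
    simp only [map_mul, map_inv, hyl, hyr] at h
    have hM : mat (left2 (yl (rE hF)) * right2 (yr (rE hF)) * left2 (yl (rE hF))) =
        !![0, 0, x * y; 0, -1, 0; qConj hF x * qConj hF y, 0, 0] := by
      rw [mat_mul, mat_mul, mat_left2, mat_right2, tl1, tl2, tr1, tr2, rl0, rr0, ← hx, ← hy]
      ext i k
      fin_cases i <;> fin_cases k <;> simp [Matrix.mul_apply, Fin.sum_univ_three, mul_comm]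
      linear_combination nx
    have hi : (yr (dE hF))⁻¹ = yr (dE hF) * m := by
      refine inv_eq_of_mul_eq_one_right ?_
      rw [← hmr, ← yrm, ← yrm, ← mul_assoc, ← hm, mm, yr1]
    have hK : mat (left2 (yl (dE hF)) * (right2 (yr (dE hF)))⁻¹) = !![a, 0, 0; 0, a * b, 0; 0, 0, b] := by
      rw [← map_inv, mat_mul, mat_left2, mat_right2, hi, mat_mul _ m, hm, mat_m, Matrix.mul_neg, Matrix.mul_one]
      ext i k
      fin_cases i <;> fin_cases k <;>
        simp [Matrix.mul_apply, Fin.sum_univ_three, sl1, sl2, sr1, sr2, dl0, dr0, ← ha, ← hb, hca, hcb]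
    have e := congrFun (congrFun (congrArg mat h.eq) 0) 2
    rw [mat_mul, mat_mul (left2 (yl (dE hF)) * _), hM, hK] at e
    simp [Matrix.mul_apply, Fin.sum_univ_three] at e
    exact mul_left_cancel₀ (mul_ne_zero x0 y0) (by linear_combination -e)
  obtain ⟨τ, hτ⟩ : ∃ τ : F ≃+* F, τ (jj hF) = a := by
    rcases da with e | e
    · exact ⟨RingEquiv.refl F, e.symm⟩
    · exact ⟨qConj hF, by rw [conj_jj, e]⟩
  have hτc := Norm.qConj_comm hF τ
  refine ⟨![-x, 1, (-y)⁻¹], τ, fun i => ?_, fun α hα => ?_⟩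
  · fin_cases i
    · simp [nx]
    · simp
    · simp [← mul_inv, ny]
  -- both maps agree on the generators of the blocks
  have e1 : α (left2 (dE hF)) = β (left2 (dE hF)) := by
    rw [hyl]
    refine mat_ext (Matrix.ext fun i j => ?_)
    rw [hα, mat_left2, mat_left2, sl1, sl2, dl0, ← ha]
    fin_cases i <;> fin_cases j <;>
      simp [dE, mat_mk, hτ, hτc, x0, y0, mul_comm]
  have e2 : α (left2 (rE hF)) = β (left2 (rE hF)) := by
    rw [hyl]
    refine mat_ext (Matrix.ext fun i j => ?_)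
    rw [hα, mat_left2, mat_left2, tl1, tl2, rl0, ← hx]
    have hxi : qConj hF x = x⁻¹ := eq_inv_of_mul_eq_one_right nx
    fin_cases i <;> fin_cases j <;>
      simp [rE, mat_mk, hxi, x0, y0]
  have e3 : α (right2 (dE hF)) = β (right2 (dE hF)) := by
    rw [hyr]
    refine mat_ext (Matrix.ext fun i j => ?_)
    rw [hα, mat_right2, mat_right2, sr1, sr2, dr0, ← hb]
    fin_cases i <;> fin_cases j <;>
      simp [dE, mat_mk, hτ, hτc, hab, x0, y0, mul_comm]
  have e4 : α (right2 (rE hF)) = β (right2 (rE hF)) := by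
    rw [hyr]
    refine mat_ext (Matrix.ext fun i j => ?_)
    rw [hα, mat_right2, mat_right2, tr1, tr2, rr0, ← hy]
    have hyi : qConj hF y = y⁻¹ := eq_inv_of_mul_eq_one_right ny
    fin_cases i <;> fin_cases j <;>
      simp [rE, mat_mk, hyi, x0, y0]
  -- hence on the blocks
  obtain ⟨α', hα'b, hα'⟩ := exists_twist hF (d := fun i => (![-x, 1, (-y)⁻¹] : Fin 3 → F) i) (fun i => by
    fin_cases i
    · simp [nx]
    · simp
    · simp [← mul_inv, ny]) τ
  have hαb : ∀ z, α z = α' z := fun z => mat_ext (Matrix.ext fun i j => by rw [hα, hα'])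
  let γ : MulAut (Cfsg.SU 3 F 3) := β.trans (MulEquiv.ofBijective α' hα'b).symm
  have hγ : ∀ z, α' (γ z) = β z := fun z => (MulEquiv.ofBijective α' hα'b).apply_symm_apply (β z)
  have fixed : ∀ z, α z = β z → γ z = z := fun z h => hα'b.1 (by rw [hγ, ← hαb, h])
  have block : ∀ (e : Fin 2 ↪ Fin 3), γ (blk e (dE hF)) = blk e (dE hF) → γ (blk e (rE hF)) = blk e (rE hF) →
      (∀ z, ∃ w, β (blk e z) = blk e w) → ∀ z, γ (blk e z) = blk e z := by
    intro e hd hr hstab
    obtain ⟨αe, hbe, hαe⟩ := exists_twist hF (d := fun i => (![-x, 1, (-y)⁻¹] : Fin 3 → F) (e i)) (fun i => by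
      generalize e i = k
      fin_cases k
      · simp [nx]
      · simp
      · simp [← mul_inv, ny]) τ
    obtain ⟨w, hw⟩ := hstab (uE hF)
    obtain ⟨v, rfl⟩ := hbe.2 w
    have hd0 : ∀ i, (![-x, 1, (-y)⁻¹] : Fin 3 → F) i ≠ 0 := fun i => by fin_cases i <;> simp [x0, y0]
    have hv : γ (blk e (uE hF)) = blk e v := hα'b.1 (by rw [hγ, hw, twist_blk hF e hd0 hα' hαe])
    have hv' : v = uE hF := by
      refine u_unique hF (blk_injective (F := F) (q := 3) e ?_) (blk_injective (F := F) (q := 3) e ?_)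
        (blk_injective (F := F) (q := 3) e ?_)
      · rw [map_pow, ← hv, ← map_pow, ← map_pow, show uE hF ^ 3 = 1 from cube_of hF _ _, map_one, map_one]
      · rw [map_mul, map_mul, map_inv, ← hv, ← hd, ← hr, ← map_inv, ← map_mul, ← map_mul, ← map_inv, ← map_mul,
          ← map_mul, u_conj_d]
      · rw [map_mul, map_mul, map_mul, ← hv, ← hd, ← hr, ← map_mul, ← map_mul, ← map_mul, ← map_mul, ← map_mul,
          ← map_mul, u_conj_r]
    rw [hv'] at hv
    intro z
    have := closure_dru hF ((γ.toMonoidHom.eqLocus (MonoidHom.id _)).comap (blk e)) hd hr hv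
    exact (this ▸ Subgroup.mem_top z : z ∈ (γ.toMonoidHom.eqLocus (MonoidHom.id _)).comap (blk e))
  have hall := gen_top hF le_rfl (show 2 ≤ 3 by omega) (γ.toMonoidHom.eqLocus (MonoidHom.id _)) fun i hi z => by
    rcases (by omega : i = 0 ∨ i = 1) with rfl | rfl
    · exact block _ (fixed _ e1) (fixed _ e2) (fun z => ⟨_, hyl z⟩) z
    · exact block _ (fixed _ e3) (fixed _ e4) (fun z => ⟨_, hyr z⟩) z
  intro z
  have hz : γ z = z := (hall ▸ Subgroup.mem_top z : z ∈ γ.toMonoidHom.eqLocus (MonoidHom.id _))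
  rw [hαb, ← hγ, hz]

variable {G : Type*} [Group G]

/-- **Gluing.** -/
theorem exists_glue_four (φ φ2 : Cfsg.SU 4 F 3 →* G)
    (hi : Function.Injective (φ.comp (emb (k := 3) 1 (by omega))))
    (hi2 : Function.Injective (φ2.comp (emb (k := 3) 0 (by omega))))
    (hV : (φ.comp (emb (k := 3) 1 (by omega))).range = (φ2.comp (emb (k := 3) 0 (by omega))).range)
    (hB : (φ.comp (emb (k := 2) 1 (by omega))).range = (φ2.comp (emb (k := 2) 0 (by omega))).range)
    (hC : (φ.comp (emb (k := 2) 2 (by omega))).range = (φ2.comp (emb (k := 2) 1 (by omega))).range) :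
    ∃ φ2' : Cfsg.SU 4 F 3 →* G, φ2'.range = φ2.range ∧
      (∀ (k : ℕ) (e : Fin k ↪ Fin 4), (φ2'.comp (blk e)).range = (φ2.comp (blk e)).range) ∧
      Function.Injective (φ2'.comp (emb (k := 3) 0 (by omega))) ∧
      (Function.Injective (φ2.comp (emb (k := 3) 1 (by omega))) →
        Function.Injective (φ2'.comp (emb (k := 3) 1 (by omega)))) ∧
      ∀ x : Cfsg.SU 3 F 3, φ2' (emb 0 (by omega) x) = φ (emb 1 (by omega) x) := by
  set p := φ.comp (emb (k := 3) 1 (by omega)) with hp
  set p2 := φ2.comp (emb (k := 3) 0 (by omega)) with hp2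
  let β : MulAut (Cfsg.SU 3 F 3) := (MonoidHom.ofInjective hi).trans
    ((MulEquiv.subgroupCongr hV).trans (MonoidHom.ofInjective hi2).symm)
  have hβ : ∀ x, p2 (β x) = p x := fun x =>
    congrArg Subtype.val ((MonoidHom.ofInjective hi2).apply_symm_apply
      (MulEquiv.subgroupCongr hV (MonoidHom.ofInjective hi x)))
  have hst : ∀ (i : ℕ) (h : i + 2 ≤ 3), (φ.comp (emb (k := 2) (1 + i) (by omega))).range =
      (φ2.comp (emb (k := 2) (0 + i) (by omega))).range →
      ∀ x, ∃ y, β (emb i h x) = emb i h y := fun i h e x => by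
    obtain ⟨y, hy⟩ : p (emb i h x) ∈ (φ2.comp (emb (k := 2) (0 + i) (by omega))).range := by
      rw [← e]; exact ⟨x, congrArg φ (emb_emb i 1 h (by omega) x).symm⟩
    exact ⟨y, hi2 ((hβ _).trans (hy.symm.trans (congrArg φ2 (emb_emb i 0 h (by omega) y).symm)))⟩
  obtain ⟨d, τ, hd, hαβ⟩ := aut_blocks hF β (hst 0 (by omega) hB) (hst 1 (by omega) hC)
  let d4 : Fin 4 → F := Fin.snoc d 1
  have hd4 : ∀ i, d4 i * qConj hF (d4 i) = 1 := fun i => by
    refine Fin.lastCases ?_ (fun i => ?_) i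
    · simp only [d4, Fin.snoc_last, map_one, mul_one]
    · simp [d4, hd]
  obtain ⟨α4, hα4, hα4m⟩ := exists_twist hF hd4 τ
  obtain ⟨α3, hα3, hα3m⟩ := exists_twist hF (d := fun i => d4 (iv 0 (by omega : 0 + 3 ≤ 4) i)) (fun i => hd4 _) τ
  have hd4i : ∀ i, d4 (iv 0 (by omega : 0 + 3 ≤ 4) i) = d i := fun i => by
    rw [show iv 0 (by omega : 0 + 3 ≤ 4) i = Fin.castSucc i from Fin.ext (by simp)]
    simp [d4]
  have h3 : ∀ x, α3 x = β x := hαβ α3 fun A i j => by rw [hα3m, hd4i, hd4i]
  have hcomm : ∀ x, φ2 (α4 (emb 0 (by omega : 0 + 3 ≤ 4) x)) = p x := fun x => by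
    rw [twist_blk hF _ (fun i h => by simpa [h] using hd4 i) hα4m hα3m, h3, ← hβ]
    rfl
  refine ⟨φ2.comp α4, ?_, fun k e => twist_range hF hd4 hα4m φ2 e, ?_, fun h1 => ?_, hcomm⟩
  · rw [MonoidHom.range_comp, MonoidHom.range_eq_top.2 hα4.2, ← MonoidHom.range_eq_map]
  · intro a b h
    exact hi ((hcomm a).symm.trans (h.trans (hcomm b)))
  · obtain ⟨α1, hb1, hα1⟩ := exists_twist hF (d := fun i => d4 (iv 1 (by omega : 1 + 3 ≤ 4) i)) (fun i => hd4 _) τ
    intro a b h
    simp only [MonoidHom.comp_apply, twist_blk hF _ (fun i h => by simpa [h] using hd4 i) hα4m hα1] at h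
    exact hb1.1 (h1 h)

end CfsgLib.Recog.Phan.Small.Three
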