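import Cfsg.Agent.Lib.Recog.Phan.Normalise

/-!
# Semilinear diagonal automorphisms of the special unitary groups
-/

set_option autoImplicit false
set_option linter.unusedSectionVars false

namespace CfsgLib.Recog.Phan.Small.Three

open Matrix CfsgLib.MaxSub
open CfsgLib.Recog.Phan.Norm (mat mat_ext mem_su_of_mat mat_unitary qConj_comm)
open CfsgLib.Pres.SUn (blk blkMat blkMat_in blkMat_row blkMat_out)

variable {F : Type*} [Field F] [Fintype F] {q : ℕ} (hF : Fintype.card F = q ^ 2)

include hF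

/-- Twisting by a semilinear diagonal map. -/
theorem exists_twist {n : ℕ} {d : Fin n → F} (hd : ∀ i, d i * qConj hF (d i) = 1) (τ : F ≃+* F) :
    ∃ α : Cfsg.SU n F q →* Cfsg.SU n F q, Function.Bijective α ∧
      ∀ A i j, mat (α A) i j = d i * τ (mat A i j) * (d j)⁻¹ := by
  have hd0 : ∀ i, d i ≠ 0 := fun i h => by simpa [h] using hd i
  let m : Matrix (Fin n) (Fin n) F → Matrix (Fin n) (Fin n) F := fun M =>
    diagonal d * M.map τ * diagonal (fun i => (d i)⁻¹)
  have hmm : ∀ M i j, m M i j = d i * τ (M i j) * (d j)⁻¹ := fun M i j => by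
    simp [m, mul_diagonal, diagonal_mul]
  have hdd : diagonal (fun i => (d i)⁻¹) * diagonal d = (1 : Matrix (Fin n) (Fin n) F) := by
    rw [diagonal_mul_diagonal, ← diagonal_one]; congr 1; funext i; exact inv_mul_cancel₀ (hd0 i)
  have hmul : ∀ M N, m (M * N) = m M * m N := fun M N => by
    simp only [m, Matrix.map_mul, Matrix.mul_assoc]
    rw [← Matrix.mul_assoc (diagonal fun i => (d i)⁻¹), hdd, Matrix.one_mul]
  have hdet : ∀ M, (m M).det = τ M.det := fun M => by
    simp only [m, det_mul, det_diagonal]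
    rw [show (M.map τ).det = τ M.det from ((τ : F →+* F).map_det M).symm, mul_right_comm,
      ← Finset.prod_mul_distrib]
    simp [hd0]
  have hsu : ∀ A : Cfsg.SU n F q, (m (mat A))ᵀ * (m (mat A)).map (qConj hF) = 1 := fun A => by
    ext i j
    rw [Matrix.mul_apply]
    simp only [Matrix.transpose_apply, Matrix.map_apply, hmm, map_mul, map_inv₀]
    have key : ∀ k, d k * τ (mat A k i) * (d i)⁻¹ *
        (qConj hF (d k) * qConj hF (τ (mat A k j)) * (qConj hF (d j))⁻¹) =
        (d i)⁻¹ * (qConj hF (d j))⁻¹ * τ (mat A k i * qConj hF (mat A k j)) := fun k => by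
      rw [map_mul τ, qConj_comm hF τ]
      linear_combination (τ (mat A k i) * (d i)⁻¹ * qConj hF (τ (mat A k j)) * (qConj hF (d j))⁻¹) * hd k
    rw [Finset.sum_congr rfl fun k _ => key k, ← Finset.mul_sum, ← map_sum]
    have := congrFun (congrFun (mat_unitary hF A) i) j
    rw [Matrix.mul_apply] at this
    simp only [Matrix.transpose_apply, Matrix.map_apply] at this
    rw [this]
    rcases eq_or_ne i j with rfl | hij
    · rw [Matrix.one_apply_eq, map_one, mul_one, ← mul_inv, hd, inv_one]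
    · rw [Matrix.one_apply_ne hij, map_zero, mul_zero]
  let f : Cfsg.SU n F q → Cfsg.SU n F q := fun A =>
    ⟨⟨m (mat A), by rw [hdet, show (mat A).det = 1 from (A : SpecialLinearGroup (Fin n) F).2, map_one]⟩,
      mem_su_of_mat hF _ (hsu A)⟩
  let α : Cfsg.SU n F q →* Cfsg.SU n F q := MonoidHom.mk' f fun A B => mat_ext (hmul _ _)
  have inj : Function.Injective α := fun A B h => mat_ext (Matrix.ext fun i j => by
    have := congrFun (congrFun (congrArg mat h) i) j
    change m (mat A) i j = m (mat B) i j at this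
    rw [hmm, hmm] at this
    exact τ.injective (mul_left_cancel₀ (hd0 i) (mul_right_cancel₀ (inv_ne_zero (hd0 j)) this)))
  exact ⟨α, ⟨inj, Finite.surjective_of_injective inj⟩, fun A i j => hmm _ i j⟩

theorem twist_blk {n k : ℕ} (e : Fin k ↪ Fin n) {d : Fin n → F} (hd : ∀ i, d i ≠ 0) {τ : F ≃+* F}
    {α : Cfsg.SU n F q →* Cfsg.SU n F q} (hα : ∀ A i j, mat (α A) i j = d i * τ (mat A i j) * (d j)⁻¹)
    {α' : Cfsg.SU k F q →* Cfsg.SU k F q}
    (hα' : ∀ A i j, mat (α' A) i j = d (e i) * τ (mat A i j) * (d (e j))⁻¹) (x : Cfsg.SU k F q) :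
    α (blk e x) = blk e (α' x) := by
  refine mat_ext (Matrix.ext fun i j => ?_)
  rw [hα]
  show _ * τ (blkMat e (mat x) i j) * _ = blkMat e (mat (α' x)) i j
  by_cases hi : ∃ a, e a = i
  · obtain ⟨a, rfl⟩ := hi
    by_cases hj : ∃ b, e b = j
    · obtain ⟨b, rfl⟩ := hj
      rw [blkMat_in, blkMat_in, hα']
    · rw [blkMat_row e _ a hj, blkMat_row e _ a hj, map_zero, mul_zero, zero_mul]
  · rw [blkMat_out e _ j hi, blkMat_out e _ j hi]
    rcases eq_or_ne i j with rfl | hij
    · simp [hd]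
    · simp [hij]

/-- A semilinear diagonal map keeps every block. -/
theorem twist_range {n : ℕ} {d : Fin n → F} (hd : ∀ i, d i * qConj hF (d i) = 1) {τ : F ≃+* F}
    {α : Cfsg.SU n F q →* Cfsg.SU n F q} (hα : ∀ A i j, mat (α A) i j = d i * τ (mat A i j) * (d j)⁻¹)
    {G : Type*} [Group G] (φ : Cfsg.SU n F q →* G) {k : ℕ} (e : Fin k ↪ Fin n) :
    ((φ.comp α).comp (blk e)).range = (φ.comp (blk e)).range := by
  obtain ⟨α', hb, hα'⟩ := exists_twist hF (d := fun i => d (e i)) (fun i => hd (e i)) τ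
  have hc : α.comp (blk e) = (blk e).comp α' :=
    MonoidHom.ext (twist_blk hF e (fun i h => by simpa [h] using hd i) hα hα')
  rw [MonoidHom.comp_assoc, hc, ← MonoidHom.comp_assoc, MonoidHom.range_comp,
    MonoidHom.range_eq_top.2 hb.2, ← MonoidHom.range_eq_map]

end CfsgLib.Recog.Phan.Small.Three
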